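import Cfsg.Agent.Lib.Known.ReeSquare.Family

/-!
# The weight of a class against the square of a class of a self-centralizing subgroup
-/

set_option autoImplicit false

namespace CfsgLib.Known.ReeSquare

open CfsgLib.Char CfsgLib.CA
open scoped ComplexConjugate Classical

variable {G : Type*} [Group G] [Fintype G] {A : Subgroup G}

local notation "NA" => Subgroup.normalizer (A : Set G)

/-- No conjugate of `g` is a non-identity element of `A`. -/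
def Avoids (A : Subgroup G) (g : G) : Prop := ∀ x : G, x⁻¹ * g * x ∈ A → x⁻¹ * g * x = 1

variable [Fintype (Cfsg.IrrCharacter G)] (hA : SelfCent A)
include hA

theorem card_family_mul_sq_le (F : Fam A) {g : G} (hg : Avoids A g) :
    (F.n : ℝ) * ‖(F.θ F.z : G → ℂ) g‖ ^ 2 ≤
      (Nat.card (Subgroup.centralizer ({g} : Set G)) : ℝ) - 1 := by
  rw [← sum_norm_sq_erase g]
  calc (F.n : ℝ) * ‖(F.θ F.z : G → ℂ) g‖ ^ 2
      = ∑ _j : Fin F.n, ‖(F.θ F.z : G → ℂ) g‖ ^ 2 := by simp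
    _ = ∑ χ ∈ Finset.univ.image F.θ, ‖(χ : G → ℂ) g‖ ^ 2 := by
      rw [Finset.sum_image fun a _ b _ h => F.θ_inj h]
      exact Finset.sum_congr rfl fun j _ => by rw [theta_eq_off hA F j hg]
    _ ≤ _ := Finset.sum_le_sum_of_subset_of_nonneg (fun χ hχ => by
      obtain ⟨j, -, rfl⟩ := Finset.mem_image.1 hχ
      exact Finset.mem_erase.2 ⟨theta_ne_triv hA F j, Finset.mem_univ _⟩) fun _ _ _ => sq_nonneg _

/-- The weight against `a ∈ A \ 1` splits into a part off the family and the family part. -/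
theorem weight_split (F : Fam A) (he : A.relIndex NA = 6) {a : A} (ha : a ≠ 1) {g : G}
    (hg : Avoids A g) :
    ∃ x y P W : ℝ, 0 ≤ x ∧ 0 ≤ y ∧ weight (a : G) g = x + y ∧ x ^ 2 ≤ 25 * P ∧
      y = W * ‖(F.θ F.z : G → ℂ) g‖ ∧ 0 ≤ W ∧ W ≤ (Nat.card A : ℝ) - 1 ∧ 0 ≤ P ∧
      P + F.n * ‖(F.θ F.z : G → ℂ) g‖ ^ 2 ≤
        (Nat.card (Subgroup.centralizer ({g} : Set G)) : ℝ) - 1 := by
  set S := Finset.univ.erase (trivChar G) with hS
  set S0 := S.filter fun χ => ∀ j, χ ≠ F.θ j with hS0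
  set S1 := S.filter fun χ => ¬ ∀ j, χ ≠ F.θ j with hS1
  set K := ‖(F.θ F.z : G → ℂ) g‖ with hK
  have hS1' : ∀ χ ∈ S1, ‖(χ : G → ℂ) g‖ = K := by
    intro χ hχ
    obtain ⟨j, hj⟩ := not_forall_not.1 (Finset.mem_filter.1 hχ).2
    rw [hj, hK, theta_eq_off hA F j hg]
  have hcard : S1 = Finset.univ.image F.θ := by
    ext χ
    simp only [hS1, Finset.mem_filter, Finset.mem_image, Finset.mem_univ, true_and, hS,
      Finset.mem_erase, and_true, not_forall, not_not]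
    refine ⟨fun ⟨_, j, hj⟩ => ⟨j, hj.symm⟩, fun ⟨j, hj⟩ => ⟨hj ▸ theta_ne_triv hA F j, j, hj.symm⟩⟩
  refine ⟨∑ χ ∈ S0, ‖(χ : G → ℂ) a‖ ^ 2 * ‖(χ : G → ℂ) g‖, (∑ χ ∈ S1, ‖(χ : G → ℂ) a‖ ^ 2) * K,
    ∑ χ ∈ S0, ‖(χ : G → ℂ) g‖ ^ 2, ∑ χ ∈ S1, ‖(χ : G → ℂ) a‖ ^ 2,
    Finset.sum_nonneg fun _ _ => by positivity, by positivity, ?_, ?_, rfl,
    Finset.sum_nonneg fun _ _ => sq_nonneg _, ?_, Finset.sum_nonneg fun _ _ => sq_nonneg _, ?_⟩
  · rw [weight, Finset.sum_mul, ← Finset.sum_filter_add_sum_filter_not S (fun χ => ∀ j, χ ≠ F.θ j)]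
    exact congrArg _ (Finset.sum_congr rfl fun χ hχ => by rw [hS1' χ hχ])
  · refine (Finset.sum_mul_sq_le_sq_mul_sq S0 _ _).trans ?_
    refine mul_le_mul_of_nonneg_right ?_ (Finset.sum_nonneg fun _ _ => sq_nonneg _)
    have hb := sum_beta_off hA F he
    have hpt : ∀ χ ∈ S0, ‖(χ : G → ℂ) a‖ ^ 2 = ((beta F χ * beta F χ : ℤ) : ℝ) := by
      intro χ hχ
      rw [apply_eq_beta hA F χ (Finset.mem_filter.1 hχ).2 ha, Complex.norm_intCast]
      push_cast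
      rw [sq_abs, sq]
    have h5 : ∑ χ ∈ S0, ‖(χ : G → ℂ) a‖ ^ 2 ≤ 5 := by
      rw [Finset.sum_congr rfl hpt, ← Int.cast_sum]
      exact_mod_cast hb
    calc ∑ χ ∈ S0, (‖(χ : G → ℂ) a‖ ^ 2) ^ 2
        ≤ (∑ χ ∈ S0, ‖(χ : G → ℂ) a‖ ^ 2) ^ 2 :=
          Finset.sum_sq_le_sq_sum_of_nonneg fun _ _ => sq_nonneg _
      _ ≤ 5 ^ 2 := pow_le_pow_left₀ (Finset.sum_nonneg fun _ _ => sq_nonneg _) h5 2
      _ = 25 := by norm_num
  · have h := sum_norm_sq_erase (G := G) (a : G)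
    rw [hA a a.2 fun e => ha (Subtype.ext e)] at h
    rw [← h]
    exact Finset.sum_le_sum_of_subset_of_nonneg (Finset.filter_subset _ _) fun _ _ _ => sq_nonneg _
  · rw [← sum_norm_sq_erase g, ← hS,
      ← Finset.sum_filter_add_sum_filter_not S (fun χ => ∀ j, χ ≠ F.θ j)]
    refine add_le_add le_rfl (le_of_eq ?_)
    rw [show S.filter (fun χ => ¬ ∀ j, χ ≠ F.θ j) = S1 from rfl,
      Finset.sum_congr rfl (fun χ hχ => by rw [hS1' χ hχ]), hcard,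
      Finset.sum_image fun a _ b _ h => F.θ_inj h]
    simp

/-- The weight when the family vanishes at `g`. -/
theorem weight_sq_le_of_zero (F : Fam A) (he : A.relIndex NA = 6) {a : A} (ha : a ≠ 1) {g : G}
    (hg : Avoids A g) (h0 : (F.θ F.z : G → ℂ) g = 0) :
    weight (a : G) g ^ 2 ≤ 25 * ((Nat.card (Subgroup.centralizer ({g} : Set G)) : ℝ) - 1) := by
  obtain ⟨x, y, P, W, -, -, hw, hx2, hy, -, -, -, hPQ⟩ := weight_split hA F he ha hg
  rw [h0, norm_zero, mul_zero] at hy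
  rw [h0, norm_zero] at hPQ
  rw [hw, hy, add_zero]
  nlinarith

/-- The weight in general. -/
theorem weight_sq_le (F : Fam A) (he : A.relIndex NA = 6) {a : A} (ha : a ≠ 1) {g : G}
    (hg : Avoids A g) :
    weight (a : G) g ^ 2 ≤ (25 + ((Nat.card A : ℝ) - 1) ^ 2 / F.n) *
      ((Nat.card (Subgroup.centralizer ({g} : Set G)) : ℝ) - 1) := by
  obtain ⟨x, y, P, W, hx, hy0, hw, hx2, hy, hW0, hW, hP, hPQ⟩ := weight_split hA F he ha hg
  set M : ℝ := ((Nat.card A : ℝ) - 1) ^ 2 / F.n with hM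
  have hn : (0 : ℝ) < F.n := by exact_mod_cast (by have := F.two_le; omega : 0 < F.n)
  have hM0 : 0 ≤ M := div_nonneg (sq_nonneg _) hn.le
  set Q : ℝ := F.n * ‖(F.θ F.z : G → ℂ) g‖ ^ 2 with hQ
  have hQ0 : 0 ≤ Q := by positivity
  have hy2 : y ^ 2 ≤ M * Q := by
    rw [hy, mul_pow, hM, hQ, div_mul_eq_mul_div, le_div_iff₀ hn]
    have : W ^ 2 ≤ ((Nat.card A : ℝ) - 1) ^ 2 := pow_le_pow_left₀ hW0 hW 2
    nlinarith [mul_nonneg (mul_nonneg hn.le (sq_nonneg ‖(F.θ F.z : G → ℂ) g‖)) (sub_nonneg.2 this)]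
  have h2 : 2 * (x * y) ≤ 25 * Q + M * P := by
    refine (le_abs_self _).trans (abs_le_of_sq_le_sq ?_ (by positivity))
    nlinarith [sq_nonneg (25 * Q - M * P), mul_le_mul hx2 hy2 (sq_nonneg y) (by positivity)]
  rw [hw]
  nlinarith [mul_le_mul_of_nonneg_left hPQ (by positivity : (0 : ℝ) ≤ 25 + M)]

end CfsgLib.Known.ReeSquare
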