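import Cfsg.Agent.Lib.Known.ReeSquare.Criterion
import Cfsg.Agent.Lib.Char.Basic

/-!
# Splitting the norm of a character over covered sets
-/

set_option autoImplicit false

namespace CfsgLib.Known.ReeSquare

open CfsgLib.Char
open scoped Classical

variable {G : Type*} [Group G] [Fintype G]

/-- Elements conjugate into `T` whose order satisfies `P`. -/
noncomputable def covered (T : Subgroup G) (P : ℕ → Prop) : Finset G :=
  Finset.univ.filter fun y => P (orderOf y) ∧ ∃ x : G, x⁻¹ * y * x ∈ T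

/-- The mass of `f` on the elements of `T` with order in `P`. -/
noncomputable def mass (T : Subgroup G) (P : ℕ → Prop) (f : G → ℝ) : ℝ :=
  ∑ t ∈ Finset.univ.filter (fun t => t ∈ T ∧ P (orderOf t)), f t

theorem sum_covered (T N : Subgroup G) (P : ℕ → Prop)
    (huniq : ∀ g : G, ∀ t ∈ T, P (orderOf t) → g * t * g⁻¹ ∈ T → g ∈ N)
    (hinv : ∀ n ∈ N, ∀ t ∈ T, P (orderOf t) → n * t * n⁻¹ ∈ T)
    (f : G → ℝ) (hf : ∀ g y : G, f (g * y * g⁻¹) = f y) :
    (Nat.card N : ℝ) * ∑ y ∈ covered T P, f y = (Nat.card G : ℝ) * mass T P f := by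
  set S := Finset.univ.filter (fun t => t ∈ T ∧ P (orderOf t))
  have ho : ∀ g y : G, orderOf (g * y * g⁻¹) = orderOf y := fun g y => by
    rw [← MulAut.conj_apply, MulEquiv.orderOf_eq]
  have h1 : ∑ p ∈ (Finset.univ : Finset G) ×ˢ S, f (p.1 * p.2 * p.1⁻¹) =
      (Nat.card G : ℝ) * mass T P f := by
    rw [Finset.sum_product, Nat.card_eq_fintype_card, mass]
    simp only [hf, Finset.sum_const, Finset.card_univ, nsmul_eq_mul]
    rfl
  rw [← h1, Finset.mul_sum,
    ← Finset.sum_fiberwise_of_maps_to (g := fun p : G × G => p.1 * p.2 * p.1⁻¹) (t := covered T P)]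
  · refine Finset.sum_congr rfl fun y hy => ?_
    obtain ⟨hyP, g0, hg0⟩ := (Finset.mem_filter.1 hy).2
    rw [Finset.sum_congr rfl (fun p hp => by rw [(Finset.mem_filter.1 hp).2]), Finset.sum_const,
      nsmul_eq_mul]
    congr 1
    norm_cast
    rw [Nat.card_eq_fintype_card, ← Finset.card_univ (α := N)]
    set t0 := g0⁻¹ * y * g0 with ht0
    have ht0P : P (orderOf t0) := by
      have h := ho g0⁻¹ y
      rw [inv_inv] at h
      rw [ht0, h]; exact hyP
    refine Finset.card_bij (fun n _ => (g0 * (n : G)⁻¹, (n : G) * t0 * (n : G)⁻¹)) (fun n _ => ?_)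
      (fun a _ b _ h => Subtype.ext (inv_injective (mul_left_cancel (congrArg Prod.fst h))))
      (fun p hp => ?_)
    · refine Finset.mem_filter.2 ⟨Finset.mem_product.2 ⟨Finset.mem_univ _,
        Finset.mem_filter.2 ⟨Finset.mem_univ _, hinv _ n.2 _ hg0 ht0P, by rw [ho]; exact ht0P⟩⟩, ?_⟩
      rw [ht0]; group
    · obtain ⟨hp1, hp2⟩ := Finset.mem_filter.1 hp
      obtain ⟨hpT, hpP⟩ := (Finset.mem_filter.1 (Finset.mem_product.1 hp1).2).2
      have he : g0⁻¹ * p.1 * p.2 * (g0⁻¹ * p.1)⁻¹ = t0 := by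
        rw [ht0, ← hp2]; group
      have hn : g0⁻¹ * p.1 ∈ N := huniq _ _ hpT hpP (by rw [he]; exact hg0)
      refine ⟨⟨(g0⁻¹ * p.1)⁻¹, inv_mem hn⟩, Finset.mem_univ _, Prod.ext ?_ ?_⟩
      · simp [mul_assoc]
      · simp only [← he]; group
  · intro p hp
    obtain ⟨hpT, hpP⟩ := (Finset.mem_filter.1 (Finset.mem_product.1 hp).2).2
    refine Finset.mem_filter.2 ⟨Finset.mem_univ _, by rw [ho]; exact hpP, p.1, ?_⟩
    rw [show p.1⁻¹ * (p.1 * p.2 * p.1⁻¹) * p.1 = p.2 by group]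
    exact hpT

/-- The squared absolute value of an irreducible character. -/
noncomputable def nsq (χ : Cfsg.IrrCharacter G) (g : G) : ℝ := ‖(χ : G → ℂ) g‖ ^ 2

omit [Fintype G] in
theorem nsq_conj (χ : Cfsg.IrrCharacter G) (g y : G) : nsq χ (g * y * g⁻¹) = nsq χ y := by
  rw [nsq, nsq, IsIrr.isClassFunction χ.2 y g]

theorem sum_nsq (χ : Cfsg.IrrCharacter G) : ∑ g : G, nsq χ g = (Nat.card G : ℝ) := by
  have h := classInner_irr χ χ
  rw [if_pos rfl, Cfsg.classInner, inv_mul_eq_iff_eq_mul₀ (Nat.cast_ne_zero.2 Nat.card_pos.ne'),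
    mul_one] at h
  have h' : ((∑ g : G, nsq χ g : ℝ) : ℂ) = ((Nat.card G : ℝ) : ℂ) := by
    push_cast [nsq]
    rw [← h]
    exact Finset.sum_congr rfl fun g _ => by rw [Complex.mul_conj']
  exact_mod_cast h'

/-- A family of covered sets with exclusive order predicates carries at most the whole norm. -/
theorem budget (χ : Cfsg.IrrCharacter G) {ι : Type*} (I : Finset ι) (T N : ι → Subgroup G)
    (P : ι → ℕ → Prop)
    (huniq : ∀ i ∈ I, ∀ g : G, ∀ t ∈ T i, P i (orderOf t) → g * t * g⁻¹ ∈ T i → g ∈ N i)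
    (hinv : ∀ i ∈ I, ∀ n ∈ N i, ∀ t ∈ T i, P i (orderOf t) → n * t * n⁻¹ ∈ T i)
    (hdis : ∀ i ∈ I, ∀ j ∈ I, i ≠ j → ∀ g : G, P i (orderOf g) → ¬ P j (orderOf g)) :
    ∑ i ∈ I, mass (T i) (P i) (nsq χ) / (Nat.card (N i) : ℝ) ≤ 1 := by
  have hG : (0 : ℝ) < (Nat.card G : ℝ) := Nat.cast_pos.2 Nat.card_pos
  have hi : ∀ i ∈ I, mass (T i) (P i) (nsq χ) / (Nat.card (N i) : ℝ) =
      (∑ y ∈ covered (T i) (P i), nsq χ y) / (Nat.card G : ℝ) := by
    intro i hi
    rw [div_eq_div_iff (Nat.cast_ne_zero.2 Nat.card_pos.ne') hG.ne', mul_comm,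
      ← sum_covered (T i) (N i) (P i) (huniq i hi) (hinv i hi) _ (nsq_conj χ), mul_comm]
  rw [Finset.sum_congr rfl hi, ← Finset.sum_div, div_le_one hG, ← sum_nsq χ, ← Finset.sum_biUnion]
  · exact Finset.sum_le_sum_of_subset_of_nonneg (Finset.subset_univ _) fun _ _ _ => sq_nonneg _
  · intro i hi j hj hij
    exact Finset.disjoint_left.2 fun y hyi hyj =>
      hdis i hi j hj hij y (Finset.mem_filter.1 hyi).2.1 (Finset.mem_filter.1 hyj).2.1

end CfsgLib.Known.ReeSquare
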