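import Cfsg.Agent.Lib.Known.ReeSquare.Family

/-!
# The mass of a family member on its own subgroup
-/

set_option autoImplicit false

namespace CfsgLib.Known.ReeSquare

open CfsgLib.Char CfsgLib.CA
open scoped ComplexConjugate Classical

variable {G : Type*} [Group G] [Fintype G] {A : Subgroup G}

local notation "NA" => Subgroup.normalizer (A : Set G)

variable (hA : SelfCent A)
include hA

/-- The mass of a family member on the non-identity elements of its own subgroup. -/
theorem self_bound (F : Fam A) :
    ∃ S : ℤ, ((S : ℂ) = ∑ a : A, if a = 1 then 0 else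
        (F.θ F.z : G → ℂ) a * conj ((F.θ F.z : G → ℂ) a)) ∧
      (A.relIndex NA : ℤ) * ((Nat.card A : ℤ) - A.relIndex NA) ≤ S ∧
      ∃ c : ℤ, (F.θ F.z : G → ℂ) 1 =
        (((Nat.card A : ℤ) * c + (beta F (F.θ F.z) + F.sgn) + A.relIndex NA * F.sgn : ℤ) : ℂ) := by
  have := Fintype.ofFinite (Cfsg.IrrCharacter A)
  set h : A → ℂ := fun x => (F.θ F.z : G → ℂ) x with hh
  set e := A.relIndex NA
  have hchar : Cfsg.IsCharacter A h := IsChar.restrict A (IsIrr.isCharacter (F.θ F.z).2)
  have hm : ∀ lam : Cfsg.IrrCharacter A, ∃ m : ℤ, Cfsg.classInner h (lam : A → ℂ) = (m : ℂ) :=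
    fun lam => by
      obtain ⟨k, hk⟩ := IsChar.classInner_eq_natCast hchar (IsIrr.isCharacter lam.2)
      exact ⟨k, by rw [hk, Int.cast_natCast]⟩
  choose m hm using hm
  let O : Finset (Cfsg.IrrCharacter A) := Finset.univ.filter fun lam =>
    ∃ g : NA, (F.r F.z : A → ℂ) ∘ cj A g = (lam : A → ℂ)
  have hOcard : O.card = e := by
    refine Eq.trans ?_ (F.r_card F.z)
    rw [Nat.card_eq_fintype_card, Fintype.card_subtype]
  have hO1 : trivChar A ∉ O := fun hmem => by
    obtain ⟨g, hg⟩ := (Finset.mem_filter.mp hmem).2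
    refine F.r_ne F.z (Subtype.ext (funext fun a => ?_))
    have := congrFun hg ((cj A g).symm a)
    simpa using this
  let K := m (F.r F.z) - F.sgn
  let m' := m (trivChar A) - K
  have hpt : ∀ lam, m lam = K + (if lam = trivChar A then m' else 0) +
      if lam ∈ O then F.sgn else 0 := by
    intro lam
    by_cases hlam : lam = trivChar A
    · subst hlam
      rw [if_pos rfl, if_neg hO1]; simp only [m']; ring
    · rw [if_neg hlam, add_zero]
      obtain ⟨j, hj⟩ := F.r_all lam hlam
      have hi := inner_orbit hA F (F.θ F.z) hj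
      rw [hm, hm] at hi
      by_cases hjz : j = F.z
      · subst hjz
        rw [if_pos rfl, sub_self, mul_zero, add_zero] at hi
        rw [if_pos (show lam ∈ O from Finset.mem_filter.mpr ⟨Finset.mem_univ _, hj⟩)]
        simp only [K]
        have : m lam = m (F.r F.z) := by exact_mod_cast hi
        omega
      · rw [if_neg (fun e => hjz (F.θ_inj e).symm), if_pos rfl] at hi
        have hnO : lam ∉ O := fun hmem => by
          obtain ⟨g', hg'⟩ := (Finset.mem_filter.mp hmem).2
          obtain ⟨g, hg⟩ := hj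
          refine F.r_orb F.z j (Ne.symm hjz) (g' * g⁻¹) ?_
          rw [comp_cj_mul, hg', ← hg, ← comp_cj_mul, mul_inv_cancel]
          exact funext fun a => congrArg _ (cj_one a)
        rw [if_neg hnO, add_zero]
        simp only [K]
        have hi2 : (m lam : ℂ) = ((m (F.r F.z) - F.sgn : ℤ) : ℂ) := by
          rw [hi]; push_cast; ring
        exact_mod_cast hi2
  have hk : (Fintype.card (Cfsg.IrrCharacter A) : ℤ) = Nat.card A := by
    rw [← Nat.card_eq_fintype_card, card_irrCharacter]
    congr 1
    refine (Nat.card_congr (Equiv.ofBijective ConjClasses.mk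
      ⟨fun a b h => ?_, ConjClasses.mk_surjective⟩)).symm
    obtain ⟨c, hc⟩ := isConj_iff.mp (ConjClasses.mk_eq_mk_iff_isConj.mp h)
    rwa [comm hA c, mul_inv_cancel_right] at hc
  have hs1 : ∑ lam, m lam = Nat.card A * K + m' + e * F.sgn := by
    simp only [hpt, Finset.sum_add_distrib, Finset.sum_ite_eq', Finset.mem_univ, if_true,
      Finset.sum_const, Finset.sum_ite_mem, Finset.univ_inter, hOcard, nsmul_eq_mul,
      Finset.card_univ, hk]
  have hs2 : ∑ lam, m lam * m lam =
      Nat.card A * (K * K) + (2 * K * m' + m' * m') + e * (2 * K * F.sgn + 1) := by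
    have hsq : ∀ lam, m lam * m lam = K * K + (if lam = trivChar A then 2 * K * m' + m' * m' else 0) +
        if lam ∈ O then 2 * K * F.sgn + 1 else 0 := by
      intro lam
      rw [hpt lam]
      by_cases hlam : lam = trivChar A
      · subst hlam; rw [if_pos rfl, if_pos rfl, if_neg hO1, if_neg hO1]; ring
      · rw [if_neg hlam, if_neg hlam]
        split_ifs
        · linear_combination F.sgn_sq
        · ring
    simp only [hsq, Finset.sum_add_distrib, Finset.sum_ite_eq', Finset.mem_univ, if_true,
      Finset.sum_const, Finset.sum_ite_mem, Finset.univ_inter, hOcard, nsmul_eq_mul,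
      Finset.card_univ, hk]
    ring
  refine ⟨(Nat.card A : ℤ) * ∑ lam, m lam * m lam - (∑ lam, m lam) * ∑ lam, m lam, ?_, ?_, K, ?_⟩
  · have hclass : Cfsg.IsClassFunction A h := IsChar.isClassFunction hchar
    have hinner := classInner_eq_sum hclass h
    simp only [hm, map_intCast] at hinner
    have h1 : h 1 = ((∑ lam, m lam : ℤ) : ℂ) := by
      rw [classFunction_apply_eq_sum hclass 1]
      simp [hm, degree_one hA]
    have hrw : ∀ a : A, (if a = 1 then 0 else (F.θ F.z : G → ℂ) a * conj ((F.θ F.z : G → ℂ) a)) =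
        h a * conj (h a) - if a = 1 then h a * conj (h a) else 0 := fun a => by
      split_ifs <;> simp [hh]
    simp only [hrw, Finset.sum_sub_distrib, Finset.sum_ite_eq', Finset.mem_univ, if_true]
    rw [Cfsg.classInner] at hinner
    rw [h1, map_intCast]
    have hA0 : (Nat.card A : ℂ) ≠ 0 := Nat.cast_ne_zero.mpr Nat.card_pos.ne'
    rw [inv_mul_eq_iff_eq_mul₀ hA0] at hinner
    rw [hinner]
    push_cast
    ring
  · rw [hs1, hs2]
    have hc : (F.n : ℤ) * e + 1 = Nat.card A := by exact_mod_cast F.card_eq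
    have h2 : (2 : ℤ) ≤ F.n := by exact_mod_cast F.two_le
    have hab : F.sgn * m' ≤ m' * m' := by
      rcases (Int.mul_eq_one_iff_eq_one_or_neg_one (u := F.sgn) (v := F.sgn)).mp F.sgn_sq with
        ⟨hs, -⟩ | ⟨hs, -⟩ <;> rw [hs] <;> nlinarith [Int.le_self_sq m', Int.le_self_sq (-m')]
    have h5 : 0 ≤ (e : ℤ) * (m' * m' - F.sgn * m') := mul_nonneg (by positivity) (by linarith)
    have h6 : 0 ≤ ((F.n : ℤ) - 2) * e * (m' * m') :=
      mul_nonneg (mul_nonneg (by linarith) (by positivity)) (mul_self_nonneg m')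
    linear_combination 2 * h5 + h6 + (m' * m') * hc + ((e : ℤ) * e) * F.sgn_sq

  · have hclass : Cfsg.IsClassFunction A h := IsChar.isClassFunction hchar
    have hb : beta F (F.θ F.z) = m (trivChar A) - m (F.r F.z) := by
      have e1 := beta_spec F (F.θ F.z)
      rw [psiOf_classInner, ← classInner_conj_symm, show (fun _ : A => (1 : ℂ)) =
        (trivChar A : A → ℂ) from rfl] at e1
      rw [← classInner_conj_symm (φ := h) (ψ := (F.r F.z : A → ℂ))] at e1
      rw [hm, hm, map_intCast, map_intCast] at e1
      exact_mod_cast e1.symm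
    have h1 : h 1 = ((∑ lam, m lam : ℤ) : ℂ) := by
      rw [classFunction_apply_eq_sum hclass 1]
      simp [hm, degree_one hA]
    rw [show (F.θ F.z : G → ℂ) 1 = h 1 from rfl, h1, hs1]
    congr 1
    simp only [m', K]
    omega

end CfsgLib.Known.ReeSquare
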