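import Cfsg.Agent.Lib.Known.ReeSquare.Family
import Cfsg.Agent.Lib.Char.Rationality
import Cfsg.Agent.Lib.CharAction.Galois
import Cfsg.Agent.Lib.CharAction.PGroup
import Mathlib.GroupTheory.FiniteAbelian.Basic
import Mathlib.FieldTheory.Finite.Basic
import Mathlib.Data.ZMod.Units
import Mathlib.RingTheory.IntegralClosure.IntegrallyClosed

/-!
# Integral values, congruences, constancy
-/

set_option autoImplicit false

namespace CfsgLib.Known.ReeSquare

open CfsgLib.Char CfsgLib.CA CfsgLib.CharAction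

variable {G : Type*} [Group G] [Fintype G]

omit [Fintype G] in
theorem exists_int_of_pow_invariant [Finite G] (χ : Cfsg.IrrCharacter G) (y : G)
    (h : ∀ m : ℕ, m.Coprime (Nat.card G) → (χ : G → ℂ) (y ^ m) = (χ : G → ℂ) y) :
    ∃ z : ℤ, (χ : G → ℂ) y = (z : ℂ) := by
  obtain ⟨n, ρ, -, hρ⟩ := χ.2
  obtain ⟨q, hq⟩ := CharRational.exists_rat_of_apply_pow_eq ρ y (by rw [hρ]; exact h)
  rw [hρ] at hq
  have hint : IsIntegral ℤ ((χ : G → ℂ) y) := by
    rw [← hρ]; exact CharIntegral.isIntegral_character ρ y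
  rw [hq, ← eq_ratCast (algebraMap ℚ ℂ) q] at hint
  obtain ⟨z, hz⟩ := IsIntegrallyClosed.isIntegral_iff.1
    ((isIntegral_algebraMap_iff (algebraMap ℚ ℂ).injective).1 hint)
  refine ⟨z, ?_⟩
  rw [hq, ← hz, eq_intCast, Rat.cast_intCast]

variable {A : Subgroup G}

theorem exists_int_theta (F : Fam A) (i : Fin F.n) {y : G}
    (hco : (orderOf y).Coprime (Nat.card A)) : ∃ z : ℤ, (F.θ i : G → ℂ) y = (z : ℂ) := by
  refine exists_int_of_pow_invariant (F.θ i) y fun m hm => ?_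
  set o := orderOf y
  set n := Nat.card A
  have hdvd : o * n ∣ Nat.card G :=
    hco.mul_dvd_of_dvd_of_dvd (orderOf_dvd_natCard y) A.card_subgroup_dvd_card
  obtain ⟨k0, hk0o, hk0n⟩ := Nat.chineseRemainder hco m 1
  have hk0 : k0.Coprime (o * n) := by
    refine Nat.Coprime.mul_right ?_ ?_
    · rw [Nat.Coprime, Nat.ModEq.gcd_eq hk0o]
      exact hm.coprime_dvd_right (orderOf_dvd_natCard y)
    · rw [Nat.Coprime, Nat.ModEq.gcd_eq hk0n]
      exact Nat.gcd_one_left n
  obtain ⟨u, hu⟩ := ZMod.unitsMap_surjective hdvd (ZMod.unitOfCoprime k0 hk0)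
  have : NeZero (Nat.card G) := ⟨Nat.card_pos.ne'⟩
  set k := (u : ZMod (Nat.card G)).val
  have hkc : k.Coprime (Nat.card G) := ZMod.val_coe_unit_coprime u
  have hmod : k ≡ k0 [MOD o * n] := by
    have h1 := congrArg (fun v : (ZMod (o * n))ˣ => (v : ZMod (o * n))) hu
    simp only [ZMod.unitsMap_def, Units.coe_map, ZMod.coe_unitOfCoprime, MonoidHom.coe_coe,
      ZMod.castHom_apply] at h1
    rw [← ZMod.natCast_eq_natCast_iff, ← h1, ← ZMod.natCast_zmod_val (u : ZMod (Nat.card G)),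
      ZMod.cast_natCast hdvd]
  have h1 : ∀ a ∈ A, a ^ k = a := fun a ha => by
    have hd : orderOf a ∣ n := by
      rw [← Subgroup.orderOf_mk a ha]; exact orderOf_dvd_natCard _
    conv_rhs => rw [← pow_one a]
    exact pow_eq_pow_iff_modEq.2 (((hmod.of_mul_left o).trans hk0n).of_dvd hd)
  rw [← theta_pow F i hkc h1 y]
  exact congrArg _ (pow_eq_pow_iff_modEq.2 ((hk0o.symm.trans (hmod.of_mul_right n).symm)))

omit [Fintype G] in
/-- Multiplying by a commuting `p`-element changes an integral value by a multiple of `p`. -/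
theorem dvd_sub_of_commute {p : ℕ} [Fact p.Prime] [Finite G] (χ : Cfsg.IrrCharacter G) {s z : G}
    (hc : Commute s z) {a : ℕ} (hz : z ^ p ^ a = 1) {S T : ℤ}
    (hS : (χ : G → ℂ) (s * z) = (S : ℂ)) (hT : (χ : G → ℂ) s = (T : ℂ)) : (p : ℤ) ∣ S - T := by
  have hχ := IsIrr.isCharacter χ.2
  have h1 := congMod_char_pow (p := p) hχ (s * z) a
  have h2 := congMod_char_pow (p := p) hχ s a
  rw [hc.mul_pow, hz, mul_one, hS] at h1
  rw [hT] at h2
  have h3 := h1.trans h2.symm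
  rw [← Int.cast_pow, ← Int.cast_pow] at h3
  have h4 := CongMod.dvd_sub_of_intCast (Fact.out : p.Prime).pos.ne' h3
  rw [← ZMod.intCast_zmod_eq_zero_iff_dvd] at h4 ⊢
  push_cast at h4 ⊢
  rwa [ZMod.pow_card_pow, ZMod.pow_card_pow] at h4

omit [Fintype G] in
/-- A small function satisfying the congruences is constant on `T \ 1`. -/
theorem const_of_congr [Finite G] (T : Subgroup G) (hT : ∀ a ∈ T, ∀ b ∈ T, a * b = b * a)
    (hbig : ∀ p : ℕ, p.Prime → p ∣ Nat.card T → 7 ≤ p) (f : G → ℤ)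
    (hbd : ∀ s ∈ T, s ≠ 1 → -3 ≤ f s ∧ f s ≤ 3)
    (hinv : ∀ s ∈ T, s ≠ 1 → f s⁻¹ = f s)
    (hcong : ∀ p : ℕ, p.Prime → ∀ s ∈ T, ∀ z ∈ T, (∃ a : ℕ, z ^ p ^ a = 1) → s ≠ 1 → s * z ≠ 1 →
      (p : ℤ) ∣ f (s * z) - f s)
    {s t : G} (hs : s ∈ T) (hs1 : s ≠ 1) (ht : t ∈ T) (ht1 : t ≠ 1) : f s = f t := by
  classical
  let Q : G → Prop := fun z => ∀ s ∈ T, s ≠ 1 → s * z ≠ 1 → f (s * z) = f s
  have hinvT : ∀ s ∈ T, f s⁻¹ = f s := fun s hs => by
    by_cases h : s = 1
    · rw [h, inv_one]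
    · exact hinv s hs h
  have hmul : ∀ a b : G, a ∈ T → b ∈ T → Q a → Q b → Q (a * b) := by
    intro a b ha hb hQa hQb s hs h1 h2
    by_cases hsa : s * a = 1
    · by_cases hsb : s * b = 1
      · have hab : b = a := mul_left_cancel (hsb.trans hsa.symm)
        have e1 : s * (a * b) = b := by rw [← mul_assoc, hsa, one_mul]
        rw [e1, hab, eq_inv_of_mul_eq_one_right hsa]
        exact hinvT s hs
      · rw [hT a ha b hb, ← mul_assoc] at h2 ⊢
        rw [hQa _ (mul_mem hs hb) hsb h2, hQb s hs h1 hsb]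
    · rw [← mul_assoc] at h2 ⊢
      rw [hQb _ (mul_mem hs ha) hsa h2, hQa s hs h1 hsa]
  have hpp : ∀ z ∈ T, ∀ p : ℕ, p.Prime → ∀ a : ℕ, orderOf z = p ^ a → Q z := by
    intro z hz p hp a ha s hs h1 h2
    rcases Nat.eq_zero_or_pos a with rfl | hpos
    · rw [pow_zero, orderOf_eq_one_iff] at ha
      rw [ha, mul_one]
    have hzp : z ^ p ^ a = 1 := by rw [← ha]; exact pow_orderOf_eq_one z
    have hd := hcong p hp s hs z hz ⟨a, hzp⟩ h1 h2
    have hpT : p ∣ Nat.card T := by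
      refine (dvd_pow_self p hpos.ne').trans ?_
      rw [← ha, ← Subgroup.orderOf_mk z hz]
      exact orderOf_dvd_natCard _
    have h5 := hbig p hp hpT
    have b1 := hbd s hs h1
    have b2 := hbd _ (mul_mem hs hz) h2
    obtain ⟨c, hc⟩ := hd
    rcases lt_trichotomy c 0 with h | h | h
    · exfalso
      have : (p : ℤ) * c ≤ (p : ℤ) * (-1) := mul_le_mul_of_nonneg_left (by omega) (by positivity)
      omega
    · subst h; omega
    · exfalso
      have : (p : ℤ) * 1 ≤ (p : ℤ) * c := mul_le_mul_of_nonneg_left (by omega) (by positivity)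
      omega
  have hall : ∀ n : ℕ, ∀ z ∈ T, orderOf z = n → Q z := by
    intro n
    induction n using Nat.recOnPosPrimePosCoprime with
    | prime_pow p a hp _ => exact fun z hz hzn => hpp z hz p hp a hzn
    | zero => exact fun z _ hzn => absurd hzn (orderOf_pos z).ne'
    | one =>
      intro z _ hzn s _ _ _
      rw [orderOf_eq_one_iff.1 hzn, mul_one]
    | coprime a b _ _ hab iha ihb =>
      intro z hz hzn
      obtain ⟨x, y, hxy⟩ : ∃ x y : ℤ, (a : ℤ) * x + (b : ℤ) * y = 1 :=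
        ⟨Nat.gcdA a b, Nat.gcdB a b, by rw [← Nat.gcd_eq_gcd_ab, hab.gcd_eq_one, Nat.cast_one]⟩
      have hza : orderOf (z ^ b) = a := by
        rw [orderOf_pow, hzn, Nat.gcd_eq_right (dvd_mul_left b a), Nat.mul_div_cancel]
        exact Nat.pos_of_ne_zero (by rintro rfl; simp only [zero_mul, mul_zero] at hzn; exact (orderOf_pos z).ne' hzn)
      have hzb : orderOf (z ^ a) = b := by
        rw [orderOf_pow, hzn, Nat.gcd_eq_right (dvd_mul_right a b), Nat.mul_div_cancel_left]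
        exact Nat.pos_of_ne_zero (by rintro rfl; simp only [zero_mul, mul_zero] at hzn; exact (orderOf_pos z).ne' hzn)
      have hpow : ∀ {w : G}, w ∈ T → Q w → ∀ e : ℕ, Q (w ^ e) := by
        intro w hw hQ e
        induction e with
        | zero => exact fun s _ _ _ => by rw [pow_zero, mul_one]
        | succ e ih => rw [pow_succ]; exact hmul _ _ (pow_mem hw e) hw ih hQ
      obtain ⟨e1, he1⟩ : ∃ e : ℕ, (z ^ b) ^ y = (z ^ b) ^ e :=
        (mem_powers_iff_mem_zpowers.2 ⟨y, rfl⟩).imp fun e he => he.symm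
      obtain ⟨e2, he2⟩ : ∃ e : ℕ, (z ^ a) ^ x = (z ^ a) ^ e :=
        (mem_powers_iff_mem_zpowers.2 ⟨x, rfl⟩).imp fun e he => he.symm
      have hz' : z = (z ^ b) ^ e1 * (z ^ a) ^ e2 := by
        rw [← he1, ← he2, ← zpow_natCast, ← zpow_natCast, ← zpow_mul, ← zpow_mul, ← zpow_add,
          show (b : ℤ) * y + a * x = 1 by linarith, zpow_one]
      rw [hz']
      exact hmul _ _ (pow_mem (pow_mem hz b) _) (pow_mem (pow_mem hz a) _)
        (hpow (pow_mem hz b) (iha _ (pow_mem hz b) hza) e1)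
        (hpow (pow_mem hz a) (ihb _ (pow_mem hz a) hzb) e2)
  have h := hall _ (s⁻¹ * t) (mul_mem (inv_mem hs) ht) rfl s hs hs1
    (by rw [mul_inv_cancel_left]; exact ht1)
  rw [mul_inv_cancel_left] at h
  exact h.symm

end CfsgLib.Known.ReeSquare
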