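import Cfsg.Agent.Lib.Known.ReeSquare.Budget
import Cfsg.Agent.Lib.Known.ReeSquare.Mass
import Cfsg.Agent.Lib.Known.ReeSquare.Bound
import Cfsg.Agent.Lib.Known.ReeSquare.Values

/-!
# A function constant on the cells `e (A₀ \ 1)` of a torus
-/

set_option autoImplicit false

namespace CfsgLib.Known.ReeSquare

open CfsgLib.Char
open scoped Classical

variable {G : Type*} [Group G] [Fintype G]

/-- `T` is the disjoint union of the translates `e A₀`, `e ∈ E`. -/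
structure CellDecomp (T A₀ : Subgroup G) (E : Finset G) : Prop where
  mem : ∀ e ∈ E, ∀ a ∈ A₀, e * a ∈ T
  inj : ∀ e ∈ E, ∀ e' ∈ E, ∀ a ∈ A₀, ∀ a' ∈ A₀, e * a = e' * a' → e = e' ∧ a = a'
  cover : ∀ t ∈ T, ∃ e ∈ E, ∃ a ∈ A₀, t = e * a

theorem CellDecomp.sum_eq {T A₀ : Subgroup G} {E : Finset G} (h : CellDecomp T A₀ E)
    {M : Type*} [AddCommMonoid M] (φ : G → M) :
    ∑ t ∈ Finset.univ.filter (· ∈ T), φ t =
      ∑ e ∈ E, ∑ a ∈ Finset.univ.filter (· ∈ A₀), φ (e * a) := by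
  rw [← Finset.sum_product']
  symm
  refine Finset.sum_bij (fun p _ => p.1 * p.2) (fun p hp => ?_) (fun p hp p' hp' e => ?_)
    (fun t ht => ?_) (fun _ _ => rfl)
  · obtain ⟨h1, h2⟩ := Finset.mem_product.1 hp
    exact Finset.mem_filter.2 ⟨Finset.mem_univ _, h.mem _ h1 _ (Finset.mem_filter.1 h2).2⟩
  · obtain ⟨h1, h2⟩ := Finset.mem_product.1 hp
    obtain ⟨h1', h2'⟩ := Finset.mem_product.1 hp'
    obtain ⟨e1, e2⟩ := h.inj _ h1 _ h1' _ (Finset.mem_filter.1 h2).2 _ (Finset.mem_filter.1 h2').2 e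
    exact Prod.ext e1 e2
  · obtain ⟨e, he, a, ha, rfl⟩ := h.cover t (Finset.mem_filter.1 ht).2
    exact ⟨(e, a), Finset.mem_product.2 ⟨he, Finset.mem_filter.2 ⟨Finset.mem_univ _, ha⟩⟩, rfl⟩

theorem sum_filter_mem_eq (A₀ : Subgroup G) {M : Type*} [AddCommMonoid M] (φ : G → M) :
    ∑ a ∈ Finset.univ.filter (· ∈ A₀), φ a =
      φ 1 + ∑ a ∈ (Finset.univ.filter (· ∈ A₀)).erase 1, φ a :=
  (Finset.add_sum_erase _ _ (Finset.mem_filter.2 ⟨Finset.mem_univ _, one_mem A₀⟩)).symm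

theorem card_filter_mem (A₀ : Subgroup G) :
    (Finset.univ.filter (· ∈ A₀)).card = Nat.card A₀ := by
  rw [← Fintype.card_subtype, Nat.card_eq_fintype_card]

/-- The sum of a character over a subgroup is a multiple of its order. -/
theorem exists_sum_eq (χ : Cfsg.IrrCharacter G) (H : Subgroup G) :
    ∃ k : ℤ, ∑ t ∈ Finset.univ.filter (· ∈ H), (χ : G → ℂ) t = (((Nat.card H : ℤ) * k : ℤ) : ℂ) := by
  obtain ⟨k, hk⟩ := IsChar.classInner_eq_natCast (IsChar.restrict H (IsIrr.isCharacter χ.2))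
    (IsIrr.isCharacter (trivChar H).2)
  refine ⟨k, ?_⟩
  rw [Cfsg.classInner, inv_mul_eq_iff_eq_mul₀ (Nat.cast_ne_zero.2 Nat.card_pos.ne')] at hk
  simp only [trivChar_apply, map_one, mul_one] at hk
  push_cast
  rw [← hk]
  exact Finset.sum_subtype _ (fun t => by simp) _

/-- Integrality over a torus with constant cells. -/
theorem cell_dvd (χ : Cfsg.IrrCharacter G) {T A₀ : Subgroup G} {E : Finset G}
    (h : CellDecomp T A₀ E) (v c : G → ℤ) (hv : ∀ e ∈ E, (χ : G → ℂ) e = (v e : ℂ))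
    (hc : ∀ e ∈ E, ∀ a ∈ A₀, a ≠ 1 → (χ : G → ℂ) (e * a) = (c e : ℂ)) :
    (Nat.card T : ℤ) ∣ ∑ e ∈ E, (v e + ((Nat.card A₀ : ℤ) - 1) * c e) := by
  obtain ⟨k, hk⟩ := exists_sum_eq χ T
  refine ⟨k, ?_⟩
  rw [h.sum_eq] at hk
  have hin : ∀ e ∈ E, ∑ a ∈ Finset.univ.filter (· ∈ A₀), (χ : G → ℂ) (e * a) =
      ((v e + ((Nat.card A₀ : ℤ) - 1) * c e : ℤ) : ℂ) := by
    intro e he
    rw [sum_filter_mem_eq, mul_one, hv e he, Finset.sum_congr rfl (fun a ha => hc e he a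
      (Finset.mem_filter.1 (Finset.mem_of_mem_erase ha)).2 (Finset.mem_erase.1 ha).1),
      Finset.sum_const, Finset.card_erase_of_mem (Finset.mem_filter.2 ⟨Finset.mem_univ _, one_mem A₀⟩),
      card_filter_mem, nsmul_eq_mul, Nat.cast_sub (Nat.card_pos : 0 < Nat.card A₀)]
    push_cast
    ring
  rw [Finset.sum_congr rfl hin, ← Int.cast_sum] at hk
  exact_mod_cast hk

/-- The mass of constant cells. -/
theorem cell_mass (χ : Cfsg.IrrCharacter G) {T A₀ : Subgroup G} {E : Finset G}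
    (h : CellDecomp T A₀ E) (P : ℕ → Prop) (c : G → ℤ)
    (hP : ∀ e ∈ E, ∀ a ∈ A₀, (P (orderOf (e * a)) ↔ a ≠ 1))
    (hc : ∀ e ∈ E, ∀ a ∈ A₀, a ≠ 1 → (χ : G → ℂ) (e * a) = (c e : ℂ)) :
    mass T P (nsq χ) = ((Nat.card A₀ : ℝ) - 1) * ∑ e ∈ E, (c e : ℝ) ^ 2 := by
  rw [mass, ← Finset.filter_filter, Finset.sum_filter, h.sum_eq, Finset.mul_sum]
  refine Finset.sum_congr rfl fun e he => ?_
  rw [sum_filter_mem_eq, if_neg (fun hp => (hP e he 1 (one_mem _)).1 hp rfl), zero_add,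
    Finset.sum_congr rfl (fun a ha => by
      obtain ⟨h1, h2⟩ := Finset.mem_erase.1 ha
      have hA := (Finset.mem_filter.1 h2).2
      rw [if_pos ((hP e he a hA).2 h1), nsq, hc e he a hA h1, Complex.norm_intCast, sq_abs]),
    Finset.sum_const, Finset.card_erase_of_mem (Finset.mem_filter.2 ⟨Finset.mem_univ _, one_mem A₀⟩),
    card_filter_mem, nsmul_eq_mul, Nat.cast_sub (Nat.card_pos : 0 < Nat.card A₀), Nat.cast_one]

end CfsgLib.Known.ReeSquare
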