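import Cfsg.Agent.Lib.Char.Complete
import Cfsg.Agent.Lib.Char.Integral
import Cfsg.Agent.Lib.CharDegree.Counting
import Mathlib.Algebra.Order.BigOperators.Ring.Finset

/-!
# Products of two conjugates: a character bound
-/

set_option autoImplicit false

namespace CfsgLib.Known.ReeSquare

open CfsgLib.Char CfsgLib.CharIntegral
open scoped ComplexConjugate

variable {G : Type*} [Group G] [Fintype G]

/-- `g` is a product of two conjugates of `x`. -/
def InSquare (x g : G) : Prop := ∃ u v : G, g = (u * x * u⁻¹) * (v * x * v⁻¹)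

omit [Fintype G] in
theorem InSquare.conj {x g : G} (h : InSquare x g) (w : G) : InSquare x (w * g * w⁻¹) := by
  obtain ⟨u, v, rfl⟩ := h
  exact ⟨w * u, w * v, by group⟩

omit [Fintype G] in
theorem InSquare.of_isConj {x g g' : G} (hc : IsConj g g') (h : InSquare x g) : InSquare x g' := by
  obtain ⟨w, rfl⟩ := isConj_iff.1 hc
  exact h.conj w

omit [Fintype G] in
theorem InSquare.of_isConj_left {x x' g : G} (hc : IsConj x' x) (h : InSquare x' g) :
    InSquare x g := by
  obtain ⟨w, rfl⟩ := isConj_iff.1 hc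
  obtain ⟨u, v, rfl⟩ := h
  exact ⟨u * w⁻¹, v * w⁻¹, by group⟩

omit [Fintype G] in
theorem norm_apply_inv [Finite G] (χ : Cfsg.IrrCharacter G) (g : G) :
    (χ : G → ℂ) g⁻¹ = conj ((χ : G → ℂ) g) := by
  obtain ⟨n, ρ, -, h⟩ := χ.2
  rw [← h]
  exact CfsgLib.CharIntegral.character_inv ρ g

/-- Column orthogonality as a sum of squares. -/
theorem sum_norm_sq [Fintype (Cfsg.IrrCharacter G)] (g : G) :
    ∑ χ : Cfsg.IrrCharacter G, ‖(χ : G → ℂ) g‖ ^ 2 =
      (Nat.card (Subgroup.centralizer ({g} : Set G)) : ℝ) := by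
  classical
  have h := column_orthogonality g g
  rw [if_pos (IsConj.refl g)] at h
  have : ((∑ χ : Cfsg.IrrCharacter G, ‖(χ : G → ℂ) g‖ ^ 2 : ℝ) : ℂ) =
      ((Nat.card (Subgroup.centralizer ({g} : Set G)) : ℝ) : ℂ) := by
    push_cast
    rw [← h]
    exact Finset.sum_congr rfl fun χ _ => by rw [Complex.mul_conj']
  exact_mod_cast this

theorem sum_norm_sq_erase [Fintype (Cfsg.IrrCharacter G)] [DecidableEq (Cfsg.IrrCharacter G)]
    (g : G) :
    ∑ χ ∈ Finset.univ.erase (trivChar G), ‖(χ : G → ℂ) g‖ ^ 2 =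
      (Nat.card (Subgroup.centralizer ({g} : Set G)) : ℝ) - 1 := by
  rw [← sum_norm_sq g, ← Finset.add_sum_erase _ _ (Finset.mem_univ (trivChar G))]
  simp

theorem norm_le_sqrt_centralizer [Fintype (Cfsg.IrrCharacter G)] (χ : Cfsg.IrrCharacter G)
    (hχ : χ ≠ trivChar G) (g : G) :
    ‖(χ : G → ℂ) g‖ ^ 2 ≤ (Nat.card (Subgroup.centralizer ({g} : Set G)) : ℝ) - 1 := by
  classical
  rw [← sum_norm_sq_erase g]
  exact Finset.single_le_sum (f := fun χ : Cfsg.IrrCharacter G => ‖(χ : G → ℂ) g‖ ^ 2)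
    (fun _ _ => sq_nonneg _) (Finset.mem_erase.2 ⟨hχ, Finset.mem_univ _⟩)

/-- The weight of a class of `g` against the square of the class of `x`. -/
noncomputable def weight [Fintype (Cfsg.IrrCharacter G)] (x g : G) : ℝ := by
  classical
  exact ∑ χ ∈ Finset.univ.erase (trivChar G), ‖(χ : G → ℂ) x‖ ^ 2 * ‖(χ : G → ℂ) g‖

theorem weight_nonneg [Fintype (Cfsg.IrrCharacter G)] (x g : G) : 0 ≤ weight x g :=
  Finset.sum_nonneg fun _ _ => by positivity

/-- A real element whose weight against `g` is smaller than every nontrivial degree. -/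
theorem inSquare_of_weight_lt [Fintype (Cfsg.IrrCharacter G)] {x g : G} (hx : IsConj x x⁻¹)
    {D : ℝ} (hD0 : 0 < D)
    (hD : ∀ χ : Cfsg.IrrCharacter G, χ ≠ trivChar G → D ≤ ((χ : G → ℂ) 1).re)
    (hw : weight x g < D) : InSquare x g := by
  classical
  by_contra hno
  have h3 := CfsgLib.CharDegree.sum_three x x g⁻¹
  have h0 : Nat.card {p : G × G // p.1 * x * p.1⁻¹ * (p.2 * x * p.2⁻¹ * g⁻¹) = 1} = 0 :=
    Nat.card_eq_zero.2 (Or.inl ⟨fun ⟨⟨u, v⟩, huv⟩ =>
      hno ⟨u, v, (mul_inv_eq_one.1 (by rw [← mul_assoc] at huv; exact huv)).symm⟩⟩)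
  rw [h0, Nat.cast_zero] at h3
  have h4 := (mul_eq_zero.1 h3).resolve_left (Nat.cast_ne_zero.2 Nat.card_pos.ne')
  rw [← Finset.add_sum_erase _ _ (Finset.mem_univ (trivChar G))] at h4
  simp only [trivChar_apply, mul_one, div_one] at h4
  have hreal : ∀ χ : Cfsg.IrrCharacter G, conj ((χ : G → ℂ) x) = (χ : G → ℂ) x := fun χ => by
    rw [← norm_apply_inv]; exact (CfsgLib.CharDegree.apply_eq_of_isConj χ hx).symm
  have hb : ‖∑ χ ∈ Finset.univ.erase (trivChar G),
      (χ : G → ℂ) x * (χ : G → ℂ) x * (χ : G → ℂ) g⁻¹ / (χ : G → ℂ) 1‖ ≤ weight x g / D := by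
    refine (norm_sum_le _ _).trans ?_
    rw [weight, Finset.sum_div]
    refine Finset.sum_le_sum fun χ hχ => ?_
    obtain ⟨d, hd0, hd⟩ := IsIrr.exists_degree χ.2
    have hDd := hD χ (Finset.mem_erase.1 hχ).1
    rw [hd, Complex.natCast_re] at hDd
    rw [norm_div, norm_mul, norm_mul, norm_apply_inv, RCLike.norm_conj, hd, Complex.norm_natCast,
      ← sq]
    exact div_le_div_of_nonneg_left (by positivity) hD0 hDd
  rw [eq_neg_of_add_eq_zero_right h4, norm_neg, norm_one, le_div_iff₀ hD0, one_mul] at hb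
  exact absurd (hw.trans_le hb) (lt_irrefl _)

end CfsgLib.Known.ReeSquare
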