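import Cfsg.Agent.Lib.Known.ReeSquare.Classes
import Cfsg.Agent.Lib.Known.ReeSquare.Criterion

/-!
# Central unipotent elements by a pigeonhole argument

An involution has at least `|C(j)|` partners with product in the class of an inverted element; two
of these partners share a Borel subgroup and a coset of the centre of its unipotent radical.
-/

set_option autoImplicit false

namespace CfsgLib.Known.ReeSquare

open Cfsg.Lie CfsgLib.Lie CfsgLib.Lie.Chev CfsgLib.Lie.Chev.TwGroups CfsgLib.Lie.Ree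

section General

variable {G : Type*} [Group G]

/-- `t` makes every element of the centraliser of `x` an involution in the coset `t C(x)`. -/
def InvertedBy (x t : G) : Prop :=
  ∀ a ∈ Subgroup.centralizer ({x} : Set G), (t * a) * (t * a) = 1 ∧ t * a ≠ 1

theorem InvertedBy.isConj_inv {x t : G} (h : InvertedBy x t) : IsConj x x⁻¹ := by
  have h1 := (h 1 (one_mem _)).1
  have h2 := (h x (Subgroup.mem_centralizer_singleton_iff.2 rfl)).1
  rw [mul_one] at h1
  refine isConj_iff.2 ⟨t, ?_⟩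
  rw [inv_eq_of_mul_eq_one_right h1, eq_inv_iff_mul_eq_one, mul_assoc, mul_assoc, ← mul_assoc x]
  calc t * (x * t * x) = t * x * (t * x) := by simp only [mul_assoc]
    _ = 1 := h2

theorem InvertedBy.conj {x t : G} (h : InvertedBy x t) (g : G) :
    InvertedBy (g * x * g⁻¹) (g * t * g⁻¹) := by
  intro a ha
  rw [Subgroup.mem_centralizer_singleton_iff] at ha
  have hb : g⁻¹ * a * g ∈ Subgroup.centralizer ({x} : Set G) := by
    rw [Subgroup.mem_centralizer_singleton_iff]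
    calc g⁻¹ * a * g * x = g⁻¹ * (a * (g * x * g⁻¹)) * g := by group
      _ = g⁻¹ * (g * x * g⁻¹ * a) * g := by rw [ha]
      _ = x * (g⁻¹ * a * g) := by group
  obtain ⟨h1, h2⟩ := h _ hb
  constructor
  · calc g * t * g⁻¹ * a * (g * t * g⁻¹ * a)
        = g * (t * (g⁻¹ * a * g) * (t * (g⁻¹ * a * g))) * g⁻¹ := by group
      _ = 1 := by rw [h1]; group
  · intro e
    apply h2
    calc t * (g⁻¹ * a * g) = g⁻¹ * (g * t * g⁻¹ * a) * g := by group
      _ = 1 := by rw [e]; group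

/-- Partners of `s`: involutions `t` with `t s` conjugate to `x`. -/
def partners (x s : G) : Set G := {t | t * t = 1 ∧ t ≠ 1 ∧ IsConj x (t * s)}

theorem inSquare_of_partners {x t₁ t₂ s : G} (hx : IsConj x x⁻¹) (hs : s * s = 1)
    (h₁ : t₁ ∈ partners x s) (h₂ : t₂ ∈ partners x s) : InSquare x (t₁ * t₂) := by
  obtain ⟨u, hu⟩ := isConj_iff.1 h₁.2.2
  have h3 : IsConj x (s * t₂) := by
    obtain ⟨w, hw⟩ := isConj_iff.1 (hx.trans (isConj_iff.2 ⟨1, by group⟩ : IsConj x⁻¹ x⁻¹))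
    obtain ⟨v, hv⟩ := isConj_iff.1 h₂.2.2
    refine isConj_iff.2 ⟨v * w, ?_⟩
    calc v * w * x * (v * w)⁻¹ = v * (w * x * w⁻¹) * v⁻¹ := by group
      _ = (v * x * v⁻¹)⁻¹ := by rw [hw]; group
      _ = (t₂ * s)⁻¹ := by rw [hv]
      _ = s * t₂ := by rw [mul_inv_rev, inv_eq_of_mul_eq_one_right hs, inv_eq_of_mul_eq_one_right h₂.1]
  obtain ⟨v, hv⟩ := isConj_iff.1 h3
  refine ⟨u, v, ?_⟩
  rw [hu, hv]
  calc t₁ * t₂ = t₁ * (s * s) * t₂ := by rw [hs, mul_one]
    _ = t₁ * s * (s * t₂) := by simp only [mul_assoc]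

theorem card_partners_conj (x s g : G) :
    Nat.card (partners x (g * s * g⁻¹)) = Nat.card (partners x s) := by
  refine Nat.card_congr ((MulAut.conj g⁻¹).toEquiv.subtypeEquiv fun t => ?_)
  simp only [partners, Set.mem_setOf_eq, MulEquiv.toEquiv_eq_coe, MulEquiv.coe_toEquiv,
    MulAut.conj_apply, inv_inv]
  refine and_congr ?_ (and_congr ?_ ?_)
  · rw [show g⁻¹ * t * g * (g⁻¹ * t * g) = g⁻¹ * (t * t) * g⁻¹⁻¹ by group, conj_eq_one_iff]
  · exact not_congr (by rw [show g⁻¹ * t * g = g⁻¹ * t * g⁻¹⁻¹ by group, conj_eq_one_iff])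
  · have e : g * (g⁻¹ * t * g * s) * g⁻¹ = t * (g * s * g⁻¹) := by group
    exact ⟨fun h => h.trans (isConj_iff.2 ⟨g⁻¹, by rw [← e]; group⟩),
      fun h => h.trans (isConj_iff.2 ⟨g, e⟩)⟩

/-- With one class of involutions, an involution has at least `|C(s)|` partners. -/
theorem card_centralizer_le_partners [Finite G] {x t₀ s : G} (ht₀ : InvertedBy x t₀)
    (hs : s * s = 1) (hs1 : s ≠ 1) (hcls : ∀ z : G, z * z = 1 → z ≠ 1 → IsConj s z) :
    Nat.card (Subgroup.centralizer ({s} : Set G)) ≤ Nat.card (partners x s) := by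
  classical
  have := Fintype.ofFinite G
  set C := {y : G // IsConj x y}
  set P := {p : G × G // (p.2 * p.2 = 1 ∧ p.2 ≠ 1) ∧ p.1 ∈ partners x p.2}
  have hg : ∀ y : C, ∃ g : G, g * x * g⁻¹ = y := fun y => isConj_iff.1 y.2
  choose g hg using hg
  let f : C × Subgroup.centralizer ({x} : Set G) → P := fun ya =>
    ⟨(g ya.1 * (t₀ * ya.2) * (g ya.1)⁻¹, g ya.1 * (t₀ * (ya.2 * x)) * (g ya.1)⁻¹), by
      obtain ⟨h1, h2⟩ := ht₀ _ ya.2.2
      obtain ⟨h3, h4⟩ := ht₀ _ (mul_mem ya.2.2 (Subgroup.mem_centralizer_singleton_iff.2 rfl) :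
        (ya.2 : G) * x ∈ Subgroup.centralizer ({x} : Set G))
      refine ⟨⟨?_, fun e => h4 (conj_eq_one_iff.1 e)⟩, ?_, fun e => h2 (conj_eq_one_iff.1 e), ?_⟩
      · rw [conj_mul, h3]; group
      · rw [conj_mul, h1]; group
      · refine ya.1.2.trans (IsConj.refl _) |>.trans (isConj_iff.2 ⟨1, ?_⟩)
        rw [← hg ya.1]
        calc 1 * (g ya.1 * x * (g ya.1)⁻¹) * 1⁻¹
            = g ya.1 * ((t₀ * ya.2) * (t₀ * ya.2) * x) * (g ya.1)⁻¹ := by rw [h1]; group
          _ = _ := by group⟩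
  have hf : Function.Injective f := by
    rintro ⟨y, a⟩ ⟨y', a'⟩ e
    have e1 := congrArg (fun p : P => (p : G × G).1) e
    have e2 := congrArg (fun p : P => (p : G × G).2) e
    simp only [f] at e1 e2
    have key : ∀ (z : C) (b : Subgroup.centralizer ({x} : Set G)),
        (g z * (t₀ * b) * (g z)⁻¹) * (g z * (t₀ * (b * x)) * (g z)⁻¹) = z := by
      intro z b
      calc _ = g z * ((t₀ * b) * (t₀ * b) * x) * (g z)⁻¹ := by group
        _ = z := by rw [(ht₀ _ b.2).1, one_mul, hg]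
    have hy : y = y' := Subtype.ext (by rw [← key y a, ← key y' a', e1, e2])
    subst hy
    exact Prod.ext rfl (Subtype.ext (mul_left_cancel (mul_left_cancel (mul_right_cancel e1))))
  have h1 := Nat.card_le_card_of_injective f hf
  rw [Nat.card_prod] at h1
  have hcard : ∀ z : G, Nat.card {y : G // IsConj z y} *
      Nat.card (Subgroup.centralizer ({z} : Set G)) = Nat.card G := fun z => by
    rw [← Subgroup.index_mul_card (Subgroup.centralizer ({z} : Set G)),
      ← CfsgLib.Char.card_carrier_eq_index z]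
    congr 1
  rw [hcard] at h1
  let e : P ≃ (Σ z : {z : G // z * z = 1 ∧ z ≠ 1}, partners x (z : G)) :=
    { toFun := fun p => ⟨⟨p.1.2, p.2.1⟩, p.1.1, p.2.2⟩
      invFun := fun q => ⟨(q.2.1, q.1.1), q.1.2, q.2.2⟩
      left_inv := fun p => rfl
      right_inv := fun q => rfl }
  rw [Nat.card_congr e, Nat.card_sigma] at h1
  have hsame : ∀ z : {z : G // z * z = 1 ∧ z ≠ 1},
      Nat.card (partners x (z : G)) = Nat.card (partners x s) := fun z => by
    obtain ⟨w, hw⟩ := isConj_iff.1 (hcls z z.2.1 z.2.2)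
    rw [← hw, card_partners_conj]
  rw [Finset.sum_congr rfl fun z _ => hsame z, Finset.sum_const, Finset.card_univ, smul_eq_mul,
    ← Nat.card_eq_fintype_card, Nat.card_congr (Equiv.subtypeEquivRight (q := IsConj s) fun z =>
      ⟨fun h => hcls z h.1 h.2, fun h => by
        obtain ⟨w, rfl⟩ := isConj_iff.1 h
        exact ⟨by rw [conj_mul, hs]; group, fun e => hs1 (conj_eq_one_iff.1 e)⟩⟩)] at h1
  rw [← hcard s] at h1
  exact Nat.le_of_mul_le_mul_left h1 (Nat.card_pos_iff.2 ⟨⟨⟨s, IsConj.refl s⟩⟩, inferInstance⟩)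

end General

variable {K : Type*} [Field K] [Fintype K] {m : ℕ} (hK : Fintype.card K = 3 ^ (2 * m + 1))
include hK

theorem isConj_jEl (hm : 1 ≤ m) (z : RG K m) (hz : z * z = 1) (h1 : z ≠ 1) :
    IsConj (jEl hK) z :=
  isConj_iff.2 (involution_conj hK hm hz h1)

/-- An involution in the Borel subgroup. -/
theorem involution_form {b : RG K m} (hb : b ∈ BR K m) (h2 : b * b = 1) (h1 : b ≠ 1) :
    ∃ a v : K, b = uEl m a ((a ^ 3 ^ m) ^ 3 * a) v * jEl hK := by
  obtain ⟨t, u, v, c, rfl⟩ := BR_form hK hb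
  have ho : orderOf (uEl m t u v * hEl hK c) = 2 :=
    orderOf_eq_prime (by rw [sq]; exact h2) h1
  by_cases hc : (c : K) ^ 2 = 1
  · rcases sq_eq_one_iff.1 hc with h | h
    · rw [show c = 1 from Units.ext h, map_one, mul_one] at ho
      rcases orderOf_uEl hK t u v with ⟨e, -⟩ | ⟨e, -⟩ | ⟨e, -⟩ <;> omega
    · rw [show c = -1 from Units.ext (by rw [h, Units.val_neg, Units.val_one])] at ho ⊢
      rw [← jEl] at ho ⊢
      rcases orderOf_uEl_jEl hK t u v with ⟨-, rfl⟩ | ⟨e, -⟩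
      · exact ⟨t, v, rfl⟩
      · omega
  · exfalso
    obtain ⟨g, -, hg⟩ := conj_HR_of_BR hK hc (uEl_mem hK t u v)
    rw [← hg, ← MulAut.conj_apply, MulEquiv.orderOf_eq] at ho
    have e : hEl hK c ^ 2 = 1 := by rw [← ho]; exact pow_orderOf_eq_one _
    rw [← map_pow, ← map_one (hEl hK)] at e
    exact hc (by rw [← Units.val_pow_eq_pow_val, hEl_injective hK e, Units.val_one])

theorem card_fixed_cosets (hm : 1 ≤ m) {z : RG K m} (hz : z * z = 1) (h1 : z ≠ 1) :
    3 ^ (2 * m + 1) + 1 ≤ Nat.card {β : RG K m ⧸ BR K m // z • β = β} := by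
  obtain ⟨g, rfl⟩ := involution_conj hK hm hz h1
  let f : K ⊕ Unit → {β : RG K m ⧸ BR K m // (g * jEl hK * g⁻¹) • β = β} := fun o => match o with
    | Sum.inl u => ⟨QuotientGroup.mk (g * (uEl m 0 u 0 * nEl hK)), by
        rw [MulAction.Quotient.smul_mk, QuotientGroup.eq, smul_eq_mul]
        have e : jEl hK * (uEl m 0 u 0 * nEl hK) = uEl m 0 u 0 * nEl hK * jEl hK := by
          rw [← mul_assoc, (jEl_commute_uEl_iff hK 0 u 0).2 ⟨rfl, rfl⟩, mul_assoc, mul_assoc,
            nEl_commute_jEl hK]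
        rw [show (g * jEl hK * g⁻¹ * (g * (uEl m 0 u 0 * nEl hK)))⁻¹ * (g * (uEl m 0 u 0 * nEl hK)) =
          (jEl hK * (uEl m 0 u 0 * nEl hK))⁻¹ * (uEl m 0 u 0 * nEl hK) by group, e]
        rw [show (uEl m 0 u 0 * nEl hK * jEl hK)⁻¹ * (uEl m 0 u 0 * nEl hK) = (jEl hK)⁻¹ by group]
        exact inv_mem ((split hK).H_le (hEl_mem hK _))⟩
    | Sum.inr _ => ⟨QuotientGroup.mk g, by
        rw [MulAction.Quotient.smul_mk, QuotientGroup.eq, smul_eq_mul,
          show (g * jEl hK * g⁻¹ * g)⁻¹ * g = (jEl hK)⁻¹ by group]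
        exact inv_mem ((split hK).H_le (hEl_mem hK _))⟩
  have hf : Function.Injective f := by
    rintro (u | ⟨⟩) (u' | ⟨⟩) e
    · have e' := QuotientGroup.eq.1 (congrArg Subtype.val e)
      rw [show (g * (uEl m 0 u 0 * nEl hK))⁻¹ * (g * (uEl m 0 u' 0 * nEl hK)) =
        (uEl m 0 u 0 * nEl hK)⁻¹ * (uEl m 0 u' 0 * nEl hK) by group] at e'
      have h2 : uEl m 0 u 0 * nEl hK * ((uEl m 0 u 0 * nEl hK)⁻¹ * (uEl m 0 u' 0 * nEl hK)) =
          uEl m 0 u' 0 * nEl hK * 1 := by group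
      obtain ⟨h3, -⟩ := cover_unique hK (uEl_mem hK 0 u 0) (uEl_mem hK 0 u' 0) e' (one_mem _) h2
      rw [(uEl_inj hK h3).2.1]
    · exfalso
      have e' := QuotientGroup.eq.1 (congrArg Subtype.val e)
      rw [show (g * (uEl m 0 u 0 * nEl hK))⁻¹ * g = (nEl hK)⁻¹ * (uEl m 0 u 0)⁻¹ by group] at e'
      refine nEl_not_mem hK ?_
      have := mul_mem e' ((split hK).U_le (uEl_mem hK 0 u 0))
      rw [inv_mul_cancel_right] at this
      exact inv_mem_iff.1 this
    · exfalso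
      have e' := QuotientGroup.eq.1 (congrArg Subtype.val e)
      rw [inv_mul_cancel_left] at e'
      refine nEl_not_mem hK ?_
      have := mul_mem (inv_mem ((split hK).U_le (uEl_mem hK 0 u' 0))) e'
      rwa [inv_mul_cancel_left] at this
    · rfl
  have h := Nat.card_le_card_of_injective f hf
  rwa [Nat.card_sum, Nat.card_eq_fintype_card (α := Unit), Fintype.card_unit, Nat.card_eq_fintype_card (α := K), hK] at h

/-- Central unipotent elements are products of two conjugates. -/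
theorem inSquare_central (hm : 1 ≤ m) {x t₀ : RG K m} (ht₀ : InvertedBy x t₀) {v : K}
    (hv : v ≠ 0) : InSquare x (uEl m 0 0 v) := by
  classical
  have := Fintype.ofFinite (RG K m)
  set N := partners x (jEl hK)
  have hN : Nat.card (Subgroup.centralizer ({jEl hK} : Set (RG K m))) ≤ Nat.card N :=
    card_centralizer_le_partners ht₀ (jEl_mul_self hK) (jEl_ne_one hK) (isConj_jEl hK hm)
  let D := Σ t : N, {β : RG K m ⧸ BR K m // (t : RG K m) • β = β}
  have hlab : ∀ p : D, ∃ a v : K,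
      p.2.1.out⁻¹ * (p.1 : RG K m) * p.2.1.out = uEl m a ((a ^ 3 ^ m) ^ 3 * a) v * jEl hK := by
    intro p
    obtain ⟨⟨t, ht⟩, ⟨β, hβ⟩⟩ := p
    refine involution_form hK ?_ ?_ ?_
    · have h := hβ
      rw [← QuotientGroup.out_eq' β, MulAction.Quotient.smul_mk, eq_comm, QuotientGroup.eq] at h
      rw [mul_assoc]
      exact h
    · calc β.out⁻¹ * t * β.out * (β.out⁻¹ * t * β.out) = β.out⁻¹ * (t * t) * β.out := by group
        _ = 1 := by rw [ht.1]; group
    · intro e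
      refine ht.2.1 ?_
      calc t = β.out * (β.out⁻¹ * t * β.out) * β.out⁻¹ := by group
        _ = 1 := by rw [e]; group
  choose a w haw using hlab
  have hcard : Nat.card ((RG K m ⧸ BR K m) × K) < Nat.card D := by
    rw [Nat.card_prod, Nat.card_eq_fintype_card (α := K), hK, Nat.card_sigma]
    have h1 : Nat.card N * (3 ^ (2 * m + 1) + 1) ≤
        ∑ t : N, Nat.card {β : RG K m ⧸ BR K m // (t : RG K m) • β = β} := by
      rw [Nat.card_eq_fintype_card, ← Finset.card_univ, ← smul_eq_mul, ← Finset.sum_const]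
      exact Finset.sum_le_sum fun t _ => card_fixed_cosets hK hm t.2.1 t.2.2.1
    refine lt_of_lt_of_le ?_ ((Nat.mul_le_mul_right _ hN).trans h1)
    have h2 := Subgroup.index_mul_card (BR K m)
    rw [card_BR hK, card_RG hK, Subgroup.index] at h2
    obtain ⟨q, hq⟩ : ∃ q, q = 3 ^ (2 * m + 1) := ⟨_, rfl⟩
    have hq3 : 3 ≤ q := hq ▸ Nat.le_self_pow (by omega) 3
    rw [← hq] at h2 ⊢
    have h3 : Nat.card (RG K m ⧸ BR K m) = q ^ 3 + 1 := by
      refine Nat.eq_of_mul_eq_mul_right (Nat.mul_pos (pow_pos (show 0 < q by omega) 3) (show 0 < q - 1 by omega)) ?_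
      rw [h2]; ring
    rw [h3, card_centralizer_jEl hK, ← hq]
    obtain ⟨p, rfl⟩ : ∃ p, q = p + 1 := ⟨q - 1, by omega⟩
    rw [Nat.add_sub_cancel]
    nlinarith [sq_nonneg (p : ℕ), hq3, Nat.mul_le_mul hq3 hq3]
  obtain ⟨p, p', hne, hpp⟩ : ∃ p p' : D, p ≠ p' ∧ (p.2.1, a p) = (p'.2.1, a p') := by
    by_contra hcon
    push_neg at hcon
    exact absurd (Nat.card_le_card_of_injective (fun p : D => (p.2.1, a p)) fun p p' h =>
      by_contra fun hne => hcon p p' hne h) (not_le.2 hcard)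
  obtain ⟨hβ, ha⟩ := Prod.mk.injEq .. ▸ hpp
  obtain ⟨t, β, hfix⟩ := p
  obtain ⟨t', β', hfix'⟩ := p'
  simp only at hβ
  subst hβ
  have e1 := haw ⟨t, β, hfix⟩
  have e2 := haw ⟨t', β, hfix'⟩
  simp only at e1 e2 ha
  rw [← ha] at e2
  generalize a ⟨t, β, hfix⟩ = a₀ at e1 e2
  generalize w ⟨t, β, hfix⟩ = v₁ at e1
  generalize w ⟨t', β, hfix'⟩ = v₂ at e2
  have htt : t ≠ t' := fun e => hne (by subst e; rfl)
  have hsq : InSquare x (t.1 * t'.1) := inSquare_of_partners ht₀.isConj_inv (jEl_mul_self hK) t.2 t'.2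
  have hprod : β.out⁻¹ * ((t : RG K m) * t') * β.out⁻¹⁻¹ =
      uEl m a₀ ((a₀ ^ 3 ^ m) ^ 3 * a₀) v₁ * jEl hK * (uEl m a₀ ((a₀ ^ 3 ^ m) ^ 3 * a₀) v₂ * jEl hK) := by
    rw [← e1, ← e2]; group
  rw [mul_assoc _ (jEl hK), ← mul_assoc (jEl hK),
    mul_inv_eq_iff_eq_mul.1 (jEl_conj_uEl hK a₀ ((a₀ ^ 3 ^ m) ^ 3 * a₀) v₂), mul_assoc _ (jEl hK),
    jEl_mul_self hK, mul_one, uEl_mul hK, add_neg_cancel] at hprod
  have hu : (a₀ ^ 3 ^ m) ^ 3 * a₀ + (a₀ ^ 3 ^ m) ^ 3 * a₀ - ((-a₀) ^ 3 ^ m) ^ 3 * a₀ = 0 := by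
    rw [neg_powG2, neg_cubeG2]
    linear_combination ((a₀ ^ 3 ^ m) ^ 3 * a₀) * (three_eq_zero_G2 hK)
  rw [hu] at hprod
  have hw : InSquare x (β.out⁻¹ * ((t : RG K m) * t') * β.out⁻¹⁻¹) := hsq.conj _
  rw [hprod] at hw
  refine InSquare.of_isConj ?_ hw
  refine (isConj_central hK fun h0 => htt (Subtype.ext ?_)).symm.trans (isConj_central hK hv)
  rw [h0, uEl_zero hK, conj_eq_one_iff] at hprod
  calc (t : RG K m) = t * ((t' : RG K m) * t') := by rw [t'.2.1, mul_one]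
    _ = t' := by rw [← mul_assoc, hprod, one_mul]

end CfsgLib.Known.ReeSquare
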