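import Cfsg.Agent.Lib.Lie.Twisted.Ree.Tori

/-!
# Classes and centralisers needed for products of two classes
-/

set_option autoImplicit false

namespace CfsgLib.Known.ReeSquare

open Cfsg.Lie CfsgLib.Lie CfsgLib.Lie.Chev CfsgLib.Lie.Chev.TwGroups CfsgLib.Lie.Ree

theorem centralizer_card_of_isConj {G : Type*} [Group G] {g h : G} (hgh : IsConj g h) :
    Nat.card (Subgroup.centralizer ({g} : Set G)) = Nat.card (Subgroup.centralizer ({h} : Set G)) := by
  obtain ⟨c, rfl⟩ := isConj_iff.1 hgh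
  exact (card_centralizer_conj c g).symm

variable {K : Type*} [Field K] [Fintype K] {m : ℕ} (hK : Fintype.card K = 3 ^ (2 * m + 1))
include hK

theorem isConj_central {v : K} (hv : v ≠ 0) : IsConj (uEl m 0 0 (1 : K)) (uEl m 0 0 v) :=
  isConj_iff.2 ⟨hEl hK (Units.mk0 v hv), by
    rw [hEl_conj_uEl hK, mul_zero, mul_zero, Units.val_mk0, mul_one]⟩

theorem isConj_noncentral {u : K} (hu : u ≠ 0) (v : K) :
    IsConj (uEl m (0 : K) u v) (uEl m 0 u 0) := by
  refine isConj_iff.2 ⟨uEl m (-(v / u)) 0 0, ?_⟩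
  rw [mul_inv_eq_iff_eq_mul, uEl_mul hK, uEl_mul hK]
  have h0 : (0 : K) ^ 3 ^ m = 0 := zero_pow (pow_ne_zero _ (by norm_num))
  congr 1
  · ring
  · rw [h0]; ring
  · rw [h0]; field_simp; ring

/-- The elements of order three. -/
theorem three_forms (hm : 1 ≤ m) {g : RG K m} (hg : orderOf g = 3) :
    IsConj (uEl m 0 0 (1 : K)) g ∨ ∃ u : K, u ≠ 0 ∧ IsConj (uEl m 0 u 0) g := by
  obtain ⟨h, hh⟩ := exists_conj_BR hK hm (g := g) (dvd_of_eq hg.symm)
  have hc : IsConj (h⁻¹ * g * h) g := isConj_iff.2 ⟨h, by group⟩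
  have ho : orderOf (h⁻¹ * g * h) = 3 := by
    exact (show orderOf (h⁻¹ * g * h) = orderOf g by
      simpa using (MulEquiv.orderOf_eq (MulAut.conj h⁻¹) g)).trans hg
  rcases BR_cases hK hh with ⟨t, u, v, e⟩ | ⟨t, u, v, e⟩ | h'
  · rw [e] at hc ho
    rcases orderOf_uEl hK t u v with ⟨e', -⟩ | ⟨-, rfl, h2⟩ | ⟨e', -⟩
    · omega
    · by_cases hu : u = 0
      · subst hu
        exact Or.inl ((isConj_central hK (fun hv => h2 ⟨rfl, hv⟩)).trans hc)
      · exact Or.inr ⟨u, hu, (isConj_noncentral hK hu v).symm.trans hc⟩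
    · omega
  · rw [e] at ho
    rcases orderOf_uEl_jEl hK t u v with ⟨e', -⟩ | ⟨e', -⟩ <;> omega
  · rw [ho] at h'; exact absurd h' (three_not_dvd m)

omit [Fintype K] hK in
theorem uEl_coords_eq {t u v t' u' v' : K} (h1 : t = t') (h2 : u = u') (h3 : v = v') :
    (uEl m t u v : RG K m) = uEl m t' u' v' := by rw [h1, h2, h3]

theorem card_centralizer_nine {t : K} (ht : t ≠ 0) (u v : K) :
    Nat.card (Subgroup.centralizer ({uEl m t u v} : Set (RG K m))) ≤ 3 * 3 ^ (2 * m + 1) := by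
  classical
  have hform : ∀ x ∈ Subgroup.centralizer ({uEl m t u v} : Set (RG K m)),
      ∃ p : K × K × K, x = uEl m p.1 p.2.1 p.2.2 ∧ (p.1 / t) ^ 3 = p.1 / t ∧
        p.2.1 * t = p.1 * u - (t ^ 3 ^ m) ^ 3 * p.1 ^ 2 + (t ^ 3 ^ m) ^ 3 * p.1 * t -
          (-((p.1 ^ 3 ^ m) ^ 3 * t ^ 2) + (p.1 ^ 3 ^ m) ^ 3 * t * p.1) := by
    intro x hx
    have hne : (uEl m t u v : RG K m) ≠ 1 := fun e => ht ((uEl_eq_one_iff hK).1 e).1
    have hB := centralizer_UR_le hK (uEl_mem hK t u v) hne hx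
    obtain ⟨a, u', v', c, rfl⟩ := BR_form hK hB
    rw [Subgroup.mem_centralizer_singleton_iff] at hx
    have hc1 : (c : K) = 1 := by
      have e := congrArg (fun z => (uEl m a u' v')⁻¹ * z) hx
      simp only [← mul_assoc, inv_mul_cancel, one_mul] at e
      have e' : hEl hK c * uEl m t u v * (hEl hK c)⁻¹ =
          (uEl m a u' v')⁻¹ * uEl m t u v * uEl m a u' v' := by
        rw [mul_inv_eq_iff_eq_mul, e]
      obtain ⟨t1, u1, v1, h1⟩ := (mem_UR_iff hK _).1 (inv_mem (uEl_mem hK a u' v'))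
      rw [hEl_conj_uEl hK, h1, uEl_mul hK, uEl_mul hK] at e'
      have hz : t1 + a = 0 := by
        have h2 : uEl m t1 u1 v1 * uEl m a u' v' = 1 := by rw [← h1, inv_mul_cancel]
        rw [uEl_mul hK] at h2
        exact ((uEl_eq_one_iff hK).1 h2).1
      obtain ⟨et, -, -⟩ := uEl_inj hK e'
      have hfix : (c : K) ^ 2 * (((c : K) ^ 3 ^ m) ^ 3)⁻¹ * t = t := by
        rw [et]; linear_combination hz
      by_contra hc
      have hcomm : hEl hK c * uEl m t 0 0 = uEl m t 0 0 * hEl hK c := by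
        rw [← mul_inv_eq_iff_eq_mul, hEl_conj_uEl hK, hfix, mul_zero, mul_zero]
      exact hc (((hEl_commute_iff hK c t 0 0).1 hcomm).1 ht)
    have hc : c = 1 := Units.ext hc1
    rw [hc, map_one, mul_one] at hx ⊢
    rw [uEl_mul hK, uEl_mul hK] at hx
    obtain ⟨-, eu, ev⟩ := uEl_inj hK hx
    refine ⟨(a, u', v'), rfl, ?_, ?_⟩
    · have hphi : ((a / t) ^ 3 ^ m) ^ 3 = a / t := by
        have hT : (t ^ 3 ^ m) ^ 3 ≠ 0 := pow_ne_zero _ (pow_ne_zero _ ht)
        rw [div_pow, div_pow, div_eq_div_iff hT ht]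
        linear_combination eu
      have h2 := pow_twG2' hK (a / t)
      rw [hphi] at h2
      rw [h2] at hphi
      exact hphi
    · linear_combination -ev
  choose p hp using hform
  let R : Finset K := Finset.univ.filter fun r => r ^ 3 = r
  have hR : R.card ≤ 3 := by
    have h : R ⊆ ({0, 1, -1} : Finset K) := fun r hr => by
      have h3 : r * (r - 1) * (r + 1) = 0 := by linear_combination (Finset.mem_filter.1 hr).2
      simp only [Finset.mem_insert, Finset.mem_singleton]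
      rcases mul_eq_zero.1 h3 with h | h
      · rcases mul_eq_zero.1 h with h | h
        · exact Or.inl h
        · exact Or.inr (Or.inl (sub_eq_zero.1 h))
      · exact Or.inr (Or.inr (eq_neg_of_add_eq_zero_left h))
    exact (Finset.card_le_card h).trans Finset.card_le_three
  have hinj : Function.Injective (fun x : Subgroup.centralizer ({uEl m t u v} : Set (RG K m)) =>
      ((⟨(p x x.2).1 / t, Finset.mem_filter.2 ⟨Finset.mem_univ _, (hp x x.2).2.1⟩⟩ : R),
        (p x x.2).2.2)) := by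
    intro x y e
    simp only [Prod.mk.injEq, Subtype.mk.injEq] at e
    have e1 : (p x x.2).1 = (p y y.2).1 := by
      have := congrArg (· * t) e.1
      simpa [div_mul_cancel₀ _ ht] using this
    have e2 : (p x x.2).2.1 = (p y y.2).2.1 := mul_right_cancel₀ ht
      ((hp x x.2).2.2.trans ((by rw [e1]) : _ = _) |>.trans (hp y y.2).2.2.symm)
    exact Subtype.ext ((hp x x.2).1.trans ((uEl_coords_eq e1 e2 e.2).trans (hp y y.2).1.symm))
  have h := Nat.card_le_card_of_injective _ hinj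
  rw [Nat.card_prod, Nat.card_eq_fintype_card (α := K), hK, Nat.card_eq_finsetCard] at h
  exact h.trans (Nat.mul_le_mul_right _ hR)

theorem card_centralizer_six {t u v : K} (hu : u ≠ (t ^ 3 ^ m) ^ 3 * t) :
    Nat.card (Subgroup.centralizer ({uEl m t u v * jEl hK} : Set (RG K m))) ≤
      3 * 3 ^ (2 * m + 1) := by
  classical
  obtain ⟨T, hT⟩ : ∃ T, T = (t ^ 3 ^ m) ^ 3 := ⟨_, rfl⟩
  obtain ⟨b, hb⟩ : ∃ b, b = uEl m t u v * jEl hK := ⟨_, rfl⟩
  have hconj : ∀ a u' v' : K, jEl hK * uEl m a u' v' = uEl m (-a) u' (-v') * jEl hK := fun a u' v' =>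
    mul_inv_eq_iff_eq_mul.1 (jEl_conj_uEl hK a u' v')
  obtain ⟨w, hw⟩ : ∃ w, w = b * b := ⟨_, rfl⟩
  have hw' : ∃ u2 v2 : K, w = uEl m 0 u2 v2 ∧ u2 ≠ 0 := by
    have e : w = uEl m t u v * uEl m (-t) u (-v) := by
      rw [hw, hb, mul_assoc, ← mul_assoc (jEl hK), hconj, mul_assoc, jEl_mul_self hK, mul_one]
    rw [uEl_mul hK, add_neg_cancel] at e
    refine ⟨_, _, e, fun e' => hu ?_⟩
    rw [neg_powG2, neg_cubeG2] at e'
    have h3 : (3 : K) = 0 := three_eq_zero_G2 hK
    linear_combination -e' + u * h3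
  obtain ⟨u2, v2, hwf, hu2⟩ := hw'
  have hform : ∀ x ∈ Subgroup.centralizer ({b} : Set (RG K m)),
      ∃ p : K × K × K × Kˣ, x = uEl m p.1 p.2.1 p.2.2.1 * hEl hK p.2.2.2 ∧ p.2.2.2 ^ 2 = 1 := by
    intro x hx
    rw [Subgroup.mem_centralizer_singleton_iff] at hx
    have hxw : x * w = w * x := by rw [hw]; exact (Commute.mul_right hx hx).eq
    have hne : (uEl m 0 u2 v2 : RG K m) ≠ 1 := fun e => hu2 ((uEl_eq_one_iff hK).1 e).2.1
    rw [hwf] at hxw
    have hB := centralizer_UR_le hK (uEl_mem hK 0 u2 v2) hne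
      (Subgroup.mem_centralizer_singleton_iff.2 hxw)
    obtain ⟨a, u', v', c, rfl⟩ := BR_form hK hB
    refine ⟨(a, u', v', c), rfl, ?_⟩
    have e' : hEl hK c * uEl m 0 u2 v2 * (hEl hK c)⁻¹ =
        (uEl m a u' v')⁻¹ * uEl m 0 u2 v2 * uEl m a u' v' := by
      rw [mul_inv_eq_iff_eq_mul]
      have e := congrArg (fun z => (uEl m a u' v')⁻¹ * z) hxw
      simp only [← mul_assoc, inv_mul_cancel, one_mul] at e
      rw [e]
    obtain ⟨t1, u1, v1, h1⟩ := (mem_UR_iff hK _).1 (inv_mem (uEl_mem hK a u' v'))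
    rw [hEl_conj_uEl hK, h1, uEl_mul hK, uEl_mul hK] at e'
    have hz : uEl m t1 u1 v1 * uEl m a u' v' = 1 := by rw [← h1, inv_mul_cancel]
    rw [uEl_mul hK] at hz
    obtain ⟨-, hz2, -⟩ := (uEl_eq_one_iff hK).1 hz
    obtain ⟨-, eu, -⟩ := uEl_inj hK e'
    have hfix : ((c : K) ^ 3 ^ m) ^ 3 * (c : K)⁻¹ * u2 = u2 := by
      rw [eu, zero_pow (pow_ne_zero _ (by norm_num)), zero_pow three_ne_zero]
      linear_combination hz2
    have hcomm : hEl hK c * uEl m 0 u2 0 = uEl m 0 u2 0 * hEl hK c := by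
      rw [← mul_inv_eq_iff_eq_mul, hEl_conj_uEl hK, hfix, mul_zero, mul_zero]
    rcases ((hEl_commute_iff hK c 0 u2 0).1 hcomm).2.1 hu2 with h | h
    · exact Units.ext (by rw [Units.val_pow_eq_pow_val, h, one_pow, Units.val_one])
    · exact Units.ext (by rw [Units.val_pow_eq_pow_val, h, Units.val_one]; ring)
  choose p hp using hform
  let S : Finset Kˣ := Finset.univ.filter fun c => c ^ 2 = 1
  have hS : S.card ≤ 2 := by
    refine (Finset.card_le_card (t := ({1, -1} : Finset Kˣ)) fun c hc => ?_).trans Finset.card_le_two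
    have h := (Finset.mem_filter.1 hc).2
    rw [Finset.mem_insert, Finset.mem_singleton]
    rcases sq_eq_one_iff.1 (show (c : K) ^ 2 = 1 by rw [← Units.val_pow_eq_pow_val, h, Units.val_one]) with e | e
    · exact Or.inl (Units.ext e)
    · exact Or.inr (Units.ext (by rw [e, Units.val_neg, Units.val_one]))
  have hinj : Function.Injective (fun x : Subgroup.centralizer ({b} : Set (RG K m)) =>
      ((⟨(p x x.2).2.2.2, Finset.mem_filter.2 ⟨Finset.mem_univ _, (hp x x.2).2⟩⟩ : S),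
        (p x x.2).2.1)) := by
    intro x y e
    simp only [Prod.mk.injEq, Subtype.mk.injEq] at e
    obtain ⟨hx1, -⟩ := hp x x.2
    obtain ⟨hy1, -⟩ := hp y y.2
    generalize p x x.2 = P at e hx1
    generalize p y y.2 = P' at e hy1
    obtain ⟨a, u', v', c⟩ := P
    obtain ⟨a', u'', v'', c'⟩ := P'
    simp only at e hx1 hy1
    obtain ⟨rfl, rfl⟩ := e
    have hd : (x : RG K m) * (y : RG K m)⁻¹ = uEl m a u' v' * (uEl m a' u' v'')⁻¹ := by
      rw [hx1, hy1]; group
    obtain ⟨d1, d2, d3, hd'⟩ := (mem_UR_iff hK _).1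
      (mul_mem (uEl_mem hK a u' v') (inv_mem (uEl_mem hK a' u' v'')))
    have hcx : (uEl m d1 d2 d3 : RG K m) * b = b * uEl m d1 d2 d3 := by
      have := (Subgroup.mem_centralizer_singleton_iff.1
        (mul_mem x.2 (inv_mem y.2) : (x : RG K m) * (y : RG K m)⁻¹ ∈ Subgroup.centralizer ({b} : Set (RG K m))))
      rwa [hd, hd'] at this
    rw [hb, ← mul_assoc, mul_assoc (uEl m t u v) (jEl hK), hconj, ← mul_assoc] at hcx
    have hcx' := mul_right_cancel hcx
    rw [uEl_mul hK, uEl_mul hK] at hcx'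
    obtain ⟨et, -, ev⟩ := uEl_inj hK hcx'
    have h3 : (3 : K) = 0 := three_eq_zero_G2 hK
    have hd1 : d1 = 0 := by linear_combination -et + d1 * h3
    subst hd1
    have hu' : d2 = 0 := by
      have h4 := hd'
      rw [mul_inv_eq_iff_eq_mul, uEl_mul hK] at h4
      obtain ⟨-, e2, -⟩ := uEl_inj hK h4
      linear_combination -e2
    subst hu'
    have hv' : d3 = 0 := by
      have h0 : (0 : K) ^ 3 ^ m = 0 := zero_pow (pow_ne_zero _ (by norm_num))
      rw [neg_zero, h0, zero_pow three_ne_zero] at ev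
      linear_combination -ev + d3 * h3
    subst hv'
    rw [uEl_zero hK, ← hd, mul_inv_eq_one] at hd'
    exact Subtype.ext hd'
  have h := Nat.card_le_card_of_injective _ hinj
  rw [Nat.card_prod, Nat.card_eq_fintype_card (α := K), hK, Nat.card_eq_finsetCard] at h
  rw [← hb]
  exact h.trans (Nat.mul_le_mul_right _ (hS.trans (by norm_num)))

/-- Elements of order six or nine. -/
theorem card_centralizer_six_nine (hm : 1 ≤ m) {g : RG K m} (h3 : 3 ∣ orderOf g)
    (hne : orderOf g ≠ 3) :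
    Nat.card (Subgroup.centralizer ({g} : Set (RG K m))) ≤ 3 * 3 ^ (2 * m + 1) := by
  obtain ⟨h, hh⟩ := exists_conj_BR hK hm h3
  have hc : IsConj g (h⁻¹ * g * h) := isConj_iff.2 ⟨h⁻¹, by group⟩
  have ho : orderOf (h⁻¹ * g * h) = orderOf g := by
    simpa using (MulEquiv.orderOf_eq (MulAut.conj h⁻¹) g)
  rw [centralizer_card_of_isConj hc]
  rcases BR_cases hK hh with ⟨t, u, v, e⟩ | ⟨t, u, v, e⟩ | h'
  · rw [e] at ho ⊢
    rcases orderOf_uEl hK t u v with ⟨e', -⟩ | ⟨e', -⟩ | ⟨-, ht⟩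
    · omega
    · omega
    · exact card_centralizer_nine hK ht u v
  · rw [e] at ho ⊢
    rcases orderOf_uEl_jEl hK t u v with ⟨e', -⟩ | ⟨-, hu⟩
    · omega
    · exact card_centralizer_six hK hu
  · rw [ho] at h'; exact absurd (h3.trans h') (three_not_dvd m)

/-- Semisimple elements that are not involutions. -/
theorem card_centralizer_semisimple (hm : 1 ≤ m) {g : RG K m} (h3 : ¬ 3 ∣ orderOf g)
    (h1 : g ≠ 1) (h2 : orderOf g ≠ 2) :
    Nat.card (Subgroup.centralizer ({g} : Set (RG K m))) ≤ 3 ^ (2 * m + 1) + 3 ^ (m + 1) + 1 := by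
  rcases order_cases hK hm g with h | h | h | ⟨r, hr, hrn, hro⟩ | ⟨r, hr, hrn, hro⟩ | ⟨r, hr, hrn, hro⟩
  · exact absurd (orderOf_eq_one_iff.1 h) h1
  · exact absurd h h2
  · exact absurd h h3
  · obtain ⟨x, hx⟩ := exists_conj_HR hK hm hr hrn hro
    have hc : IsConj g (x⁻¹ * g * x) := isConj_iff.2 ⟨x⁻¹, by group⟩
    rw [centralizer_card_of_isConj hc]
    have ho : orderOf (x⁻¹ * g * x) = orderOf g := by
      simpa using (MulEquiv.orderOf_eq (MulAut.conj x⁻¹) g)
    obtain ⟨c, hc'⟩ := (mem_HR_iff hK _).1 hx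
    rw [hc'] at ho ⊢
    have hc2 : (c : K) ^ 2 ≠ 1 := by
      intro e
      have hd : orderOf g ∣ 2 := by
        rw [← ho]
        refine orderOf_dvd_of_pow_eq_one ?_
        rw [← map_pow, show c ^ 2 = 1 from Units.ext (by rw [Units.val_pow_eq_pow_val, e, Units.val_one]),
          map_one]
      rcases (Nat.dvd_prime Nat.prime_two).1 hd with e' | e'
      · exact h1 (orderOf_eq_one_iff.1 e')
      · exact h2 e'
    rw [centralizer_hEl hK hm hc2, card_HR hK]
    exact (Nat.sub_le _ _).trans ((Nat.le_add_right _ _).trans (Nat.le_succ _))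
  · obtain ⟨x, hx⟩ := exists_conj_TD hK hm hr hrn hro
    have hc : IsConj g (x⁻¹ * g * x) := isConj_iff.2 ⟨x⁻¹, by group⟩
    rw [centralizer_card_of_isConj hc]
    set a := x⁻¹ * g * x with ha
    have ho : orderOf a = orderOf g := by simpa [ha] using (MulEquiv.orderOf_eq (MulAut.conj x⁻¹) g)
    have ha2 : a * a ≠ 1 := fun e => by
      have hd : orderOf g ∣ 2 := ho ▸ orderOf_dvd_of_pow_eq_one (by rwa [sq])
      rcases (Nat.dvd_prime Nat.prime_two).1 hd with e' | e'
      · exact h1 (orderOf_eq_one_iff.1 e')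
      · exact h2 e'
    have hle : Subgroup.centralizer ({a} : Set (RG K m)) ≤ TD hK := by
      rw [← centralizer_quarter hK hm (sq_mem_A1 hK hx) ha2]
      intro y hy
      rw [Subgroup.mem_centralizer_singleton_iff] at hy ⊢
      exact (Commute.mul_right hy hy).eq
    refine (Nat.le_of_dvd Nat.card_pos (Subgroup.card_dvd_of_le hle)).trans ?_
    rw [card_TD hK]
    exact Nat.succ_le_succ (Nat.le_add_right _ _)
  · obtain ⟨A, B, hA, hB, hca, hcb, hmul⟩ := six_tori hK hm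
    rw [← hmul] at hrn
    have key : ∀ {T : Subgroup (RG K m)}, SixTorus T → r ∣ Nat.card ↥T →
        Nat.card (Subgroup.centralizer ({g} : Set (RG K m))) = Nat.card ↥T := by
      intro T hT hd
      obtain ⟨x, hx⟩ := hT.cover g ⟨r, hr, hd, hro⟩
      have hc : IsConj g (x⁻¹ * g * x) := isConj_iff.2 ⟨x⁻¹, by group⟩
      rw [centralizer_card_of_isConj hc, hT.cent _ hx fun e => h1 ?_]
      exact conj_eq_one_iff.1 (show x⁻¹ * g * x⁻¹⁻¹ = 1 by rw [inv_inv]; exact e)
    rcases hr.dvd_mul.1 hrn with h' | h'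
    · rw [key hA h', hca]
      exact Nat.succ_le_succ ((Nat.sub_le _ _).trans (Nat.le_add_right _ _))
    · rw [key hB h', hcb]

end CfsgLib.Known.ReeSquare
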