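import Cfsg.Agent.Lib.Known.ReeSquare.Tori
import Cfsg.Agent.Lib.Lie.Twisted.Ree.MinDegree
import Cfsg.Agent.Lib.CharDegree.Basic

/-!
# The elementary character bound for classes with small centraliser
-/

set_option autoImplicit false

namespace CfsgLib.Known.ReeSquare

open Cfsg.Lie CfsgLib.Lie CfsgLib.Lie.Chev CfsgLib.Lie.Chev.TwGroups CfsgLib.Lie.Ree CfsgLib.Char

theorem weight_le {G : Type*} [Group G] [Fintype G] [Fintype (Cfsg.IrrCharacter G)] (x g : G) :
    weight x g ≤ ((Nat.card (Subgroup.centralizer ({x} : Set G)) : ℝ) - 1) *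
      Real.sqrt ((Nat.card (Subgroup.centralizer ({g} : Set G)) : ℝ) - 1) := by
  classical
  rw [weight, ← sum_norm_sq_erase x, Finset.sum_mul]
  refine Finset.sum_le_sum fun χ hχ => mul_le_mul_of_nonneg_left ?_ (sq_nonneg _)
  rw [← Real.sqrt_sq (norm_nonneg ((χ : G → ℂ) g))]
  exact Real.sqrt_le_sqrt (norm_le_sqrt_centralizer χ (Finset.mem_erase.1 hχ).1 g)

variable {K : Type*} [Field K] [Fintype K] {m : ℕ} (hK : Fintype.card K = 3 ^ (2 * m + 1))
include hK

theorem two_le_degree (hm : 1 ≤ m) (χ : Cfsg.IrrCharacter (RG K m)) (hχ : χ ≠ trivChar (RG K m)) :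
    (3 ^ (2 * m + 1) : ℝ) ^ 2 - 3 ^ (2 * m + 1) + 1 ≤ ((χ : RG K m → ℂ) 1).re := by
  classical
  obtain ⟨n, ρ, hρ, h⟩ := χ.2
  have h1 : (χ : RG K m → ℂ) 1 = n := by
    rw [← h, Representation.char_one, Module.finrank_fin_fun]
  obtain ⟨d, hd0, hd⟩ := IsIrr.exists_degree χ.2
  have hdn : d = n := by exact_mod_cast hd.symm.trans h1
  have h2 : 2 ≤ n := by
    by_contra hlt
    have hn1 : n = 1 := by omega
    subst hn1
    refine hχ (Subtype.ext (funext fun g => ?_))
    have hc : Cfsg.charDegree (χ : RG K m → ℂ) = 1 := CharDegree.charDegree_eq_of_apply_one h1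
    have hk := CharDegree.le_ker_of_degree_one χ hc (g := g) (perfect_RG hK hm ▸ Subgroup.mem_top g)
    rw [hk, h1, trivChar_apply, Nat.cast_one]
  have hmin := min_degree hK hm ρ hρ (by rwa [Module.finrank_fin_fun])
  rw [Module.finrank_fin_fun] at hmin
  rw [h1, Complex.natCast_re]
  have hq : 1 ≤ 3 ^ (2 * m + 1) := Nat.one_le_pow _ _ three_pos
  have : ((3 ^ (2 * m + 1) * (3 ^ (2 * m + 1) - 1) + 1 : ℕ) : ℝ) ≤ (n : ℝ) := by exact_mod_cast hmin
  push_cast [Nat.cast_sub hq] at this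
  linarith

theorem card_centralizer_of_kind (hm : 1 ≤ m) {x : RG K m} (h : Kind hK x) :
    Nat.card (Subgroup.centralizer ({x} : Set (RG K m))) ≤ 3 ^ (2 * m + 1) + 3 ^ (m + 1) + 1 := by
  rcases h with ⟨c, hc, rfl⟩ | ⟨h, h2⟩ | ⟨A, hA, h, h1, hn⟩
  · rw [centralizer_hEl hK hm hc, card_HR hK]
    exact (Nat.sub_le _ _).trans ((Nat.le_add_right _ _).trans (Nat.le_succ _))
  · have hle : Subgroup.centralizer ({x} : Set (RG K m)) ≤ TD hK := by
      rw [← centralizer_quarter hK hm (sq_mem_A1 hK h) h2]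
      intro y hy
      rw [Subgroup.mem_centralizer_singleton_iff] at hy ⊢
      exact (Commute.mul_right hy hy).eq
    refine (Nat.le_of_dvd Nat.card_pos (Subgroup.card_dvd_of_le hle)).trans ?_
    rw [card_TD hK]
    exact Nat.succ_le_succ (Nat.le_add_right _ _)
  · rw [hA.cent x h h1]
    rcases hn with hn | hn <;> rw [hn]
    exact Nat.succ_le_succ ((Nat.sub_le _ _).trans (Nat.le_add_right _ _))

theorem q_facts (hm : 1 ≤ m) : ∃ r : ℝ, 3 ≤ r ∧ (3 : ℝ) ^ (2 * m + 1) = 3 * r ^ 2 ∧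
    (3 : ℝ) ^ (m + 1) = 3 * r := by
  refine ⟨3 ^ m, ?_, by rw [← pow_mul]; ring, by ring⟩
  calc (3 : ℝ) = 3 ^ 1 := (pow_one _).symm
    _ ≤ 3 ^ m := pow_le_pow_right₀ (by norm_num) hm

/-- Classes with centraliser at most `3q`. -/
theorem inSquare_of_small (hm : 1 ≤ m) {x g : RG K m} (hx : Kind hK x)
    (hg : Nat.card (Subgroup.centralizer ({g} : Set (RG K m))) ≤ 3 * 3 ^ (2 * m + 1)) :
    InSquare x g := by
  classical
  have := Fintype.ofFinite (RG K m)
  have := Fintype.ofFinite (Cfsg.IrrCharacter (RG K m))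
  obtain ⟨t, ht⟩ := exists_inverted hK hm hx
  obtain ⟨r, hr, hq, hr1⟩ := q_facts hK hm
  refine inSquare_of_weight_lt ht.isConj_inv (D := (3 * r ^ 2) ^ 2 - 3 * r ^ 2 + 1) (by nlinarith)
    (fun χ hχ => by rw [← hq]; exact two_le_degree hK hm χ hχ) ?_
  set a : ℝ := (Nat.card (Subgroup.centralizer ({x} : Set (RG K m))) : ℝ) - 1
  set b : ℝ := (Nat.card (Subgroup.centralizer ({g} : Set (RG K m))) : ℝ) - 1
  have ha : a ≤ 3 * r ^ 2 + 3 * r := by
    have h := card_centralizer_of_kind hK hm hx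
    have : (Nat.card (Subgroup.centralizer ({x} : Set (RG K m))) : ℝ) ≤
        ((3 ^ (2 * m + 1) + 3 ^ (m + 1) + 1 : ℕ) : ℝ) := by exact_mod_cast h
    push_cast at this
    simp only [a]; linarith
  have hb : b ≤ 9 * r ^ 2 := by
    have : (Nat.card (Subgroup.centralizer ({g} : Set (RG K m))) : ℝ) ≤
        ((3 * 3 ^ (2 * m + 1) : ℕ) : ℝ) := by exact_mod_cast hg
    push_cast at this
    simp only [b]; linarith
  have hb0 : 0 ≤ b := sub_nonneg.2 (by exact_mod_cast Nat.card_pos)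
  have ha0 : 0 ≤ a := sub_nonneg.2 (by exact_mod_cast Nat.card_pos)
  have hsb : Real.sqrt b ≤ 3 * r := by
    rw [Real.sqrt_le_left (by linarith)]; nlinarith
  refine (weight_le x g).trans_lt ?_
  calc a * Real.sqrt b ≤ (3 * r ^ 2 + 3 * r) * (3 * r) :=
        mul_le_mul ha hsb (Real.sqrt_nonneg _) (by positivity)
    _ < (3 * r ^ 2) ^ 2 - 3 * r ^ 2 + 1 := by
      nlinarith [mul_le_mul_of_nonneg_left hr (pow_nonneg (by linarith : (0 : ℝ) ≤ r) 3),
        mul_le_mul_of_nonneg_left hr (sq_nonneg r), pow_pos (by linarith : (0 : ℝ) < r) 3]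

/-- The centraliser of a non-central element of order three. -/
theorem card_centralizer_noncentral {u : K} (hu : u ≠ 0) :
    Nat.card (Subgroup.centralizer ({uEl m 0 u 0} : Set (RG K m))) ≤ 2 * (3 ^ (2 * m + 1)) ^ 2 := by
  classical
  have hne : (uEl m 0 u 0 : RG K m) ≠ 1 := fun e => hu ((uEl_eq_one_iff hK).1 e).2.1
  have hform : ∀ x ∈ Subgroup.centralizer ({uEl m 0 u 0} : Set (RG K m)),
      ∃ p : K × K × Kˣ, x = uEl m 0 p.1 p.2.1 * hEl hK p.2.2 ∧ p.2.2 ^ 2 = 1 := by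
    intro x hx
    have hB := centralizer_UR_le hK (uEl_mem hK 0 u 0) hne hx
    rw [Subgroup.mem_centralizer_singleton_iff] at hx
    obtain ⟨a, u', v', c, rfl⟩ := BR_form hK hB
    have e : uEl m a u' v' * (hEl hK c * uEl m 0 u 0 * (hEl hK c)⁻¹) = uEl m 0 u 0 * uEl m a u' v' := by
      calc uEl m a u' v' * (hEl hK c * uEl m 0 u 0 * (hEl hK c)⁻¹)
          = uEl m a u' v' * hEl hK c * uEl m 0 u 0 * (hEl hK c)⁻¹ := by group
        _ = uEl m 0 u 0 * uEl m a u' v' := by rw [hx]; group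
    rw [hEl_conj_uEl hK, mul_zero, mul_zero, uEl_mul hK, uEl_mul hK] at e
    obtain ⟨-, eu, ev⟩ := uEl_inj hK e
    simp only [zero_pow three_ne_zero, zero_pow (pow_ne_zero m three_ne_zero), mul_zero, zero_mul,
      sub_zero, add_zero, zero_add, zero_pow two_ne_zero] at eu ev
    have ha : a = 0 := (mul_eq_zero.1 (show a * u = 0 by linear_combination ev)).resolve_right hu
    subst ha
    have hfix : ((c : K) ^ 3 ^ m) ^ 3 * (c : K)⁻¹ * u = u := by linear_combination eu
    have hcomm : hEl hK c * uEl m 0 u 0 = uEl m 0 u 0 * hEl hK c := by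
      rw [← mul_inv_eq_iff_eq_mul, hEl_conj_uEl hK, hfix, mul_zero, mul_zero]
    refine ⟨(u', v', c), rfl, Units.ext ?_⟩
    rcases ((hEl_commute_iff hK c 0 u 0).1 hcomm).2.1 hu with h | h <;>
      · rw [Units.val_pow_eq_pow_val, h, Units.val_one]; ring
  choose p hp using hform
  let S : Finset Kˣ := Finset.univ.filter fun c => c ^ 2 = 1
  have hS : S.card ≤ 2 := by
    refine (Finset.card_le_card (t := ({1, -1} : Finset Kˣ)) fun c hc => ?_).trans Finset.card_le_two
    have h := (Finset.mem_filter.1 hc).2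
    rw [Finset.mem_insert, Finset.mem_singleton]
    rcases sq_eq_one_iff.1 (show (c : K) ^ 2 = 1 by rw [← Units.val_pow_eq_pow_val, h, Units.val_one]) with e | e
    · exact Or.inl (Units.ext e)
    · exact Or.inr (Units.ext (by rw [e, Units.val_neg, Units.val_one]))
  have hinj : Function.Injective (fun x : Subgroup.centralizer ({uEl m 0 u 0} : Set (RG K m)) =>
      ((⟨(p x x.2).2.2, Finset.mem_filter.2 ⟨Finset.mem_univ _, (hp x x.2).2⟩⟩ : S),
        ((p x x.2).1, (p x x.2).2.1))) := by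
    intro x y e
    simp only [Prod.mk.injEq, Subtype.mk.injEq] at e
    exact Subtype.ext ((hp x x.2).1.trans (by rw [e.1, e.2.1, e.2.2, ← (hp y y.2).1]))
  have h := Nat.card_le_card_of_injective _ hinj
  rw [Nat.card_prod, Nat.card_prod, Nat.card_eq_fintype_card (α := K), hK, Nat.card_eq_finsetCard] at h
  exact h.trans ((Nat.mul_le_mul_right _ hS).trans_eq (by rw [sq]))

end CfsgLib.Known.ReeSquare
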