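import Cfsg.Agent.Lib.Known.ReeSquare.Cells
import Cfsg.Agent.Lib.Known.ReeSquare.Generic

/-!
# The exceptional characters of a torus of order `q ± 3r + 1` on the other tori
-/

set_option autoImplicit false

open scoped Classical

namespace CfsgLib.Known.ReeSquare

open Cfsg.Lie CfsgLib.Lie CfsgLib.Lie.Chev CfsgLib.Lie.Chev.TwGroups CfsgLib.Lie.Ree CfsgLib.Char
  CfsgLib.CA
open scoped ComplexConjugate

variable {K : Type*} [Field K] [Fintype K] {m : ℕ}

/-- A prime dividing `(q ± 1)/2` or `(q+1)/4` is at least seven. -/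
theorem seven_le_prime {p : ℕ} (hp : p.Prime) (h : p ∣ nH m ∨ p ∣ nQ m) : 7 ≤ p := by
  obtain ⟨h2, h3, hd⟩ : p ≠ 2 ∧ p ≠ 3 ∧ (p ∣ 3 ^ (2 * m + 1) - 1 ∨ p ∣ 3 ^ (2 * m + 1) + 1) := by
    rcases h with h | h
    · exact ⟨(half_prime hp h).1, (half_prime hp h).2.1, Or.inl (half_prime hp h).2.2⟩
    · exact ⟨(quarter_prime hp h).1, (quarter_prime hp h).2.1, Or.inr (quarter_prime hp h).2.2.2.2.2⟩
  have h5 : p ≠ 5 := by
    rintro rfl
    have hmod : ∀ k : ℕ, 3 ^ (2 * k + 1) % 5 = 3 ∨ 3 ^ (2 * k + 1) % 5 = 2 := by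
      intro k
      induction k with
      | zero => exact Or.inl rfl
      | succ k ih =>
        rw [show 2 * (k + 1) + 1 = 2 * k + 1 + 2 by ring, pow_add, Nat.mul_mod]
        rcases ih with h | h <;> rw [h]
        · exact Or.inr rfl
        · exact Or.inl rfl
    have := hmod m
    have := Nat.one_le_pow (2 * m + 1) 3 three_pos
    omega
  have h4 : p ≠ 4 := by rintro rfl; norm_num at hp
  have h6 : p ≠ 6 := by rintro rfl; norm_num at hp
  have := hp.two_le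
  omega

variable (hK : Fintype.card K = 3 ^ (2 * m + 1))
include hK

theorem not_shares_six_of_dvd (hm : 1 ≤ m) {g : RG K m}
    (h : orderOf g ∣ 2 ∨ Shares (nH m) (orderOf g) ∨ Shares (nQ m) (orderOf g)) :
    ¬ Shares (nSix m) (orderOf g) := fun hs => by
  obtain ⟨h1, h2, -, hH, hQ⟩ := six_excludes hK hm hs
  rcases h with h | h | h
  · rcases (Nat.dvd_prime Nat.prime_two).1 h with e | e
    · exact h1 e
    · exact h2 e
  · exact hH h
  · exact hQ h

variable {A : Subgroup (RG K m)} (hA : SixTorus A)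
include hA

theorem selfCent_six : SelfCent A := fun a ha h1 => hA.cent a ha h1

theorem relIndex_six : A.relIndex (Subgroup.normalizer (A : Set (RG K m))) = 6 := by
  have h := Subgroup.index_mul_card (A.subgroupOf (Subgroup.normalizer (A : Set (RG K m))))
  rw [Nat.card_congr (Subgroup.subgroupOfEquivOfLe (Subgroup.le_normalizer)).toEquiv,
    ← Subgroup.relIndex, hA.card_norm] at h
  exact Nat.eq_of_mul_eq_mul_right Nat.card_pos h

theorem shares_six_of_shares {o : ℕ} (h : Shares (Nat.card A) o) : Shares (nSix m) o :=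
  h.imp fun _ ⟨hr, hd, ho⟩ => ⟨hr, hd.trans hA.dvd, ho⟩

theorem avoids_six {g : RG K m} (h : ¬ Shares (nSix m) (orderOf g)) : Avoids A g := by
  intro x hx
  by_contra h1
  refine h (shares_six_of_shares hK hA (Shares.of_dvd ?_ fun e => ?_))
  · rw [← show orderOf (x⁻¹ * g * x) = orderOf g by
      simpa using (MulEquiv.orderOf_eq (MulAut.conj x⁻¹) g), ← Subgroup.orderOf_mk _ hx]
    exact orderOf_dvd_natCard _
  · rw [orderOf_eq_one_iff] at e
    exact h1 (by rw [e]; group)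

theorem coprime_six {g : RG K m} (h : ¬ Shares (nSix m) (orderOf g)) :
    (orderOf g).Coprime (Nat.card A) :=
  Nat.coprime_of_dvd fun r hr h1 h2 => h ⟨r, hr, h2.trans hA.dvd, h1⟩

variable [Fintype (RG K m)] [Fintype (Cfsg.IrrCharacter (RG K m))] (F : Fam A)

omit [Fintype (Cfsg.IrrCharacter (RG K m))] in
theorem theta_int {g : RG K m} (h : ¬ Shares (nSix m) (orderOf g)) :
    ∃ z : ℤ, (F.θ F.z : RG K m → ℂ) g = (z : ℂ) :=
  exists_int_theta F F.z (coprime_six hK hA h)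

omit [Fintype (Cfsg.IrrCharacter (RG K m))] in
theorem card_six_mul : 6 * F.n + 1 = Nat.card A := by
  rw [← F.card_eq, relIndex_six hK hA, mul_comm]

theorem card_six_ge (hn : Nat.card A = 3 ^ (2 * m + 1) - 3 ^ (m + 1) + 1 ∨
    Nat.card A = 3 ^ (2 * m + 1) + 3 ^ (m + 1) + 1) :
    (3 : ℝ) ^ (2 * m + 1) - 3 ^ (m + 1) + 1 ≤ (Nat.card A : ℝ) := by
  have hle : 3 ^ (m + 1) ≤ 3 ^ (2 * m + 1) := Nat.pow_le_pow_right three_pos (by omega)
  rcases hn with hn | hn <;> rw [hn] <;> push_cast [Nat.cast_sub hle]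
  · exact le_rfl
  · have : (0 : ℝ) ≤ 3 ^ (m + 1) := by positivity
    linarith

/-- Constancy and size on one cell. -/
theorem exists_cell_val (hm : 1 ≤ m)
    (hn : Nat.card A = 3 ^ (2 * m + 1) - 3 ^ (m + 1) + 1 ∨
      Nat.card A = 3 ^ (2 * m + 1) + 3 ^ (m + 1) + 1)
    {A₀ : Subgroup (RG K m)} (hcomm : ∀ a ∈ A₀, ∀ b ∈ A₀, a * b = b * a)
    (hbig : ∀ p : ℕ, p.Prime → p ∣ Nat.card A₀ → 7 ≤ p)
    {e : RG K m} (he : e * e = 1) (hce : ∀ a ∈ A₀, e * a = a * e)
    (hns : ∀ a ∈ A₀, a ≠ 1 → ¬ Shares (nSix m) (orderOf (e * a)))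
    (hC : ∀ a ∈ A₀, a ≠ 1 →
      Nat.card (Subgroup.centralizer ({e * a} : Set (RG K m))) ≤ 3 ^ (2 * m + 1) + 1) :
    ∃ c : ℤ, (-3 ≤ c ∧ c ≤ 3) ∧ ∀ a ∈ A₀, a ≠ 1 → (F.θ F.z : RG K m → ℂ) (e * a) = (c : ℂ) := by
  have hex : ∀ y : RG K m, ∃ z : ℤ, ¬ Shares (nSix m) (orderOf y) →
      (F.θ F.z : RG K m → ℂ) y = (z : ℂ) := fun y =>
    (Classical.em (Shares (nSix m) (orderOf y))).elim (fun h => ⟨0, fun h' => absurd h h'⟩)
      fun h => (theta_int hK hA F h).imp fun z hz _ => hz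
  choose v hv using hex
  obtain ⟨r, hr, hq, hr1⟩ := q_facts hK hm
  have hbd : ∀ a ∈ A₀, a ≠ 1 → -3 ≤ v (e * a) ∧ v (e * a) ≤ 3 := by
    intro a ha h1
    have h := card_family_mul_sq_le (selfCent_six hK hA) F
      (avoids_six hK hA (hns a ha h1))
    rw [hv _ (hns a ha h1), Complex.norm_intCast, sq_abs] at h
    have hC' : (Nat.card (Subgroup.centralizer ({e * a} : Set (RG K m))) : ℝ) ≤
        ((3 ^ (2 * m + 1) + 1 : ℕ) : ℝ) := by exact_mod_cast hC a ha h1
    push_cast at hC'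
    have hA' := card_six_ge hK hA hn
    have h6 : ((6 * F.n + 1 : ℕ) : ℝ) = (Nat.card A : ℝ) := by rw [card_six_mul hK hA F]
    push_cast at h6
    rw [hq, hr1] at hA'
    rw [hq] at hC'
    have h16 : ((v (e * a) : ℝ)) ^ 2 < 16 := by
      by_contra hcon
      rw [not_lt] at hcon
      nlinarith [mul_le_mul_of_nonneg_left hcon
        (Nat.cast_nonneg F.n : (0 : ℝ) ≤ F.n), mul_le_mul_of_nonneg_left hr (by linarith : (0 : ℝ) ≤ r)]
    have h16' : v (e * a) * v (e * a) < 16 := by rw [sq] at h16; exact_mod_cast h16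
    constructor <;> nlinarith
  by_cases hbot : ∃ a ∈ A₀, a ≠ 1
  · obtain ⟨a₀, ha₀, ha₀1⟩ := hbot
    refine ⟨v (e * a₀), hbd a₀ ha₀ ha₀1, fun a ha h1 => ?_⟩
    rw [hv _ (hns a ha h1)]
    congr 1
    refine const_of_congr A₀ hcomm hbig (fun s => v (e * s)) hbd (fun s hs hs1 => ?_)
      (fun p hp s hs z hz ⟨k, hk⟩ hs1 hsz => ?_) ha h1 ha₀ ha₀1
    · have hinv : (e * s)⁻¹ = e * s⁻¹ := by
        rw [mul_inv_rev, inv_eq_of_mul_eq_one_right he]; exact (hce _ (inv_mem hs)).symm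
      have h' := norm_apply_inv (F.θ F.z) (e * s)
      rw [hinv, hv _ (hns _ (inv_mem hs) (fun x => hs1 (inv_eq_one.1 x))),
        hv _ (hns _ hs hs1), map_intCast] at h'
      exact_mod_cast h'
    · have : Fact p.Prime := ⟨hp⟩
      have hco : Commute (e * s) z :=
        (show Commute e z from hce z hz).mul_left (hcomm s hs z hz)
      refine dvd_sub_of_commute (F.θ F.z) hco hk ?_ (hv _ (hns s hs hs1))
      rw [mul_assoc]
      exact hv _ (hns _ (mul_mem hs hz) hsz)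
  · exact ⟨0, by norm_num, fun a ha h1 => absurd ⟨a, ha, h1⟩ hbot⟩

end CfsgLib.Known.ReeSquare
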