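import Cfsg.Agent.Lib.Char.CAVanish
import Cfsg.Agent.Lib.Char.PowerTwist
import Cfsg.Agent.Lib.Known.ReeSquare.Criterion
import Cfsg.Agent.S0198

/-!
# The exceptional family of a self-centralizing subgroup

No parity hypothesis on the group or on the number of orbits.
-/

set_option autoImplicit false

namespace CfsgLib.Known.ReeSquare

open CfsgLib.Char CfsgLib.CA
open scoped ComplexConjugate Classical

variable {G : Type*} [Group G] [Fintype G] {A : Subgroup G}

local notation "NA" => Subgroup.normalizer (A : Set G)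

/-- Exceptional characters attached to `A`. -/
structure Fam (A : Subgroup G) where
  n : ℕ
  z : Fin n
  two_le : 2 ≤ n
  card_eq : n * A.relIndex (Subgroup.normalizer (A : Set G)) + 1 = Nat.card A
  r : Fin n → Cfsg.IrrCharacter A
  r_ne : ∀ j, r j ≠ trivChar A
  r_orb : ∀ j k, j ≠ k → ∀ g : Subgroup.normalizer (A : Set G),
    (r j : A → ℂ) ∘ cj A g ≠ (r k : A → ℂ)
  r_all : ∀ lam : Cfsg.IrrCharacter A, lam ≠ trivChar A →
    ∃ j, ∃ g : Subgroup.normalizer (A : Set G), (r j : A → ℂ) ∘ cj A g = (lam : A → ℂ)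
  r_card : ∀ j, Nat.card {lam : Cfsg.IrrCharacter A //
      ∃ g : Subgroup.normalizer (A : Set G), (r j : A → ℂ) ∘ cj A g = (lam : A → ℂ)} =
        A.relIndex (Subgroup.normalizer (A : Set G))
  sgn : ℤ
  sgn_sq : sgn * sgn = 1
  θ : Fin n → Cfsg.IrrCharacter G
  θ_inj : Function.Injective θ
  rel : ∀ j, Cfsg.indFun A ((r j : A → ℂ) - (r z : A → ℂ)) =
    (sgn : ℂ) • ((θ j : G → ℂ) - (θ z : G → ℂ))

theorem exists_fam (hA : SelfCent A)
    (hlt : A.relIndex NA + 1 < Nat.card A) : Nonempty (Fam A) := by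
  classical
  obtain ⟨n, r, hcard, hrne, horb, hall, hrc⟩ := exists_reps hA
  have h2 : 2 ≤ n := by
    by_contra h
    have : n * A.relIndex NA ≤ 1 * A.relIndex NA := Nat.mul_le_mul_right _ (by omega)
    omega
  let z : Fin n := ⟨0, by omega⟩
  let τ : Fin n → G → ℂ := fun j => Cfsg.indFun A ((r j : A → ℂ) - (r z : A → ℂ))
  have hz : ∀ j, ((r j : A → ℂ) - (r z : A → ℂ)) 1 = 0 := fun j => by
    rw [Pi.sub_apply, degree_one hA, degree_one hA, sub_self]
  have hgram : ∀ i j, i ≠ z → j ≠ z →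
      Cfsg.classInner (τ i) (τ j) = if i = j then 2 else 1 := by
    intro i j hi hj
    have h := classInner_indFun hA ((r i : A → ℂ) - (r z : A → ℂ)) (hz j)
    have hcomp : ∀ g : NA, ((r j : A → ℂ) - (r z : A → ℂ)) ∘ cj A g =
        (r j : A → ℂ) ∘ cj A g - (r z : A → ℂ) ∘ cj A g := fun g => rfl
    simp only [hcomp, classInner_sub_left, classInner_sub_right, Finset.sum_sub_distrib,
      CA.sum_classInner_comp hA hrne horb, if_neg hj, if_neg (Ne.symm hi), if_pos] at h
    have hA0 : (Nat.card A : ℂ) ≠ 0 := Nat.cast_ne_zero.mpr Nat.card_pos.ne'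
    refine mul_left_cancel₀ hA0 (h.trans ?_)
    by_cases hij : i = j
    · subst hij; simp; ring
    · simp [hij, Ne.symm hij]
  obtain ⟨ε, hε, μ, hμ, hinj, hrel⟩ := Cfsg.Agent.S0198.result n z τ
    (by simp [τ, indFun_zero])
    (fun j => IsGen.indFun (IsGen.sub (IsGen.of_irr (r j).2) (IsGen.of_irr (r z).2)))
    (fun j => by simp only [τ]; rw [indFun_apply_one, hz j, mul_zero]) hgram
  obtain ⟨s, hs, hs2⟩ : ∃ s : ℤ, (s : ℂ) = ε ∧ s * s = 1 := by
    rcases hε with rfl | rfl
    · exact ⟨1, by simp, rfl⟩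
    · exact ⟨-1, by simp, rfl⟩
  exact ⟨{ n := n, z := z, two_le := h2, card_eq := hcard, r := r, r_ne := hrne,
           r_orb := horb, r_all := hall, r_card := hrc, sgn := s, sgn_sq := hs2,
           θ := fun j => ⟨μ j, hμ j⟩, θ_inj := fun a b e => hinj (congrArg Subtype.val e),
           rel := fun j => by rw [hs]; exact hrel j }⟩

/-- Multiplicity of `χ` in the character induced from `1 - r z`. -/
noncomputable def beta (F : Fam A) (χ : Cfsg.IrrCharacter G) : ℤ :=
  (IsGen.exists_classInner_eq_intCast (psiOf_gen (F.r F.z)) (IsGen.of_irr χ.2)).choose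

theorem beta_spec (F : Fam A) (χ : Cfsg.IrrCharacter G) :
    Cfsg.classInner (psiOf A (F.r F.z)) (χ : G → ℂ) = (beta F χ : ℂ) :=
  (IsGen.exists_classInner_eq_intCast (psiOf_gen (F.r F.z)) (IsGen.of_irr χ.2)).choose_spec

theorem beta_triv (F : Fam A) : beta F (trivChar G) = 1 := by
  exact_mod_cast (beta_spec F (trivChar G)).symm.trans (psiOf_inner_triv _ (F.r_ne F.z))

variable (hA : SelfCent A)
include hA

theorem sum_beta_sq [Fintype (Cfsg.IrrCharacter G)] (F : Fam A) :
    ∑ χ : Cfsg.IrrCharacter G, beta F χ * beta F χ = (A.relIndex NA : ℤ) + 1 := by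
  classical
  have h := classInner_eq_sum (psiOf_isClass (F.r F.z)) (psiOf A (F.r F.z))
  rw [psiOf_inner_self hA F.r_ne F.r_orb F.z F.z, if_pos rfl] at h
  simp only [beta_spec, map_intCast] at h
  exact_mod_cast h.symm

theorem beta_theta (F : Fam A) {j : Fin F.n} (hj : j ≠ F.z) :
    beta F (F.θ j) = beta F (F.θ F.z) + F.sgn := by
  classical
  have h0 : ((F.r j : A → ℂ) - (F.r F.z : A → ℂ)) 1 = 0 := by
    rw [Pi.sub_apply, degree_one hA, degree_one hA, sub_self]
  have h := classInner_indFun hA ((fun _ : A => (1 : ℂ)) - (F.r F.z : A → ℂ)) h0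
  have hcomp : ∀ g : NA, ((F.r j : A → ℂ) - (F.r F.z : A → ℂ)) ∘ cj A g =
      (F.r j : A → ℂ) ∘ cj A g - (F.r F.z : A → ℂ) ∘ cj A g := fun g => rfl
  simp only [hcomp, classInner_sub_left, classInner_sub_right, Finset.sum_sub_distrib,
    CA.sum_classInner_comp hA F.r_ne F.r_orb, CA.classInner_triv_comp _ (F.r_ne _), if_pos,
    if_neg hj, Finset.sum_const_zero] at h
  have h1 : Cfsg.classInner (psiOf A (F.r F.z))
      (Cfsg.indFun A ((F.r j : A → ℂ) - (F.r F.z : A → ℂ))) = 1 := by
    refine mul_left_cancel₀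
      (Nat.cast_ne_zero.mpr (Nat.card_pos (α := A)).ne' : (Nat.card A : ℂ) ≠ 0) (h.trans ?_)
    ring
  rw [F.rel, classInner_smul_right, classInner_sub_right, beta_spec, beta_spec, map_intCast] at h1
  have h2 : F.sgn * (beta F (F.θ j) - beta F (F.θ F.z)) = 1 := by exact_mod_cast h1
  have h3 : F.sgn * (F.sgn * (beta F (F.θ j) - beta F (F.θ F.z))) = F.sgn := by rw [h2, mul_one]
  rw [← mul_assoc, F.sgn_sq, one_mul] at h3
  omega

theorem theta_ne_triv (F : Fam A) : ∀ j, F.θ j ≠ trivChar G := by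
  classical
  intro j e
  have hb := congrArg (beta F) e
  rw [beta_triv] at hb
  have hval : ∀ i, Cfsg.classInner ((F.sgn : ℂ) • ((F.θ i : G → ℂ) - (F.θ F.z : G → ℂ)))
      (trivChar G : G → ℂ) = 0 := by
    intro i
    rw [← F.rel, frobenius_reciprocity A _ (IsIrr.isClassFunction (trivChar G).2),
      classInner_sub_left]
    simp only [trivChar_apply]
    rw [CA.classInner_triv_right _ (F.r_ne i), CA.classInner_triv_right _ (F.r_ne F.z), sub_self]
  obtain ⟨i, hi⟩ : ∃ i, i ≠ F.z := by
    haveI := Fin.nontrivial_iff_two_le.mpr F.two_le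
    exact exists_ne F.z
  have hs0 : (F.sgn : ℂ) ≠ 0 := fun hz => by
    have := F.sgn_sq
    rw [Int.cast_eq_zero] at hz
    simp [hz] at this
  have h1 : j = F.z → False := by
    intro hj
    subst hj
    have := hval i
    rw [classInner_smul_left, classInner_sub_left, classInner_irr, classInner_irr, if_pos e,
      if_neg (fun e' => hi (F.θ_inj (e'.trans e.symm)))] at this
    simp [hs0] at this
  have := hval j
  rw [classInner_smul_left, classInner_sub_left, classInner_irr, classInner_irr, if_pos e,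
    if_neg (fun e' => h1 (F.θ_inj (e.trans e'.symm)))] at this
  simp [hs0] at this

/-- The squares of the multiplicities off the family and off `1`. -/
theorem sum_beta_off [Fintype (Cfsg.IrrCharacter G)] [DecidableEq (Cfsg.IrrCharacter G)]
    (F : Fam A) (he : A.relIndex NA = 6) :
    ∑ χ ∈ (Finset.univ.erase (trivChar G)).filter (fun χ => ∀ j, χ ≠ F.θ j),
      beta F χ * beta F χ ≤ 5 := by
  classical
  have h := sum_beta_sq hA F
  have hne := theta_ne_triv hA F
  rw [he] at h
  rw [← Finset.add_sum_erase _ _ (Finset.mem_univ (trivChar G)), beta_triv,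
    ← Finset.sum_filter_add_sum_filter_not (Finset.univ.erase (trivChar G))
      (fun χ => ∀ j, χ ≠ F.θ j)] at h
  have hnn : 0 ≤ ∑ χ ∈ (Finset.univ.erase (trivChar G)).filter (fun χ => ¬ ∀ j, χ ≠ F.θ j),
      beta F χ * beta F χ := Finset.sum_nonneg fun χ _ => mul_self_nonneg _
  have hex : 1 ≤ ∑ χ ∈ (Finset.univ.erase (trivChar G)).filter (fun χ => ¬ ∀ j, χ ≠ F.θ j),
      beta F χ * beta F χ := by
    obtain ⟨i, hi⟩ : ∃ i, i ≠ F.z := by
      haveI := Fin.nontrivial_iff_two_le.mpr F.two_le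
      exact exists_ne F.z
    have hb := beta_theta hA F hi
    have hmem : ∀ j, F.θ j ∈ (Finset.univ.erase (trivChar G)).filter
        (fun χ => ¬ ∀ j, χ ≠ F.θ j) := fun j =>
      Finset.mem_filter.2 ⟨Finset.mem_erase.2 ⟨hne j, Finset.mem_univ _⟩, fun hc => hc j rfl⟩
    by_cases h0 : beta F (F.θ F.z) = 0
    · refine le_trans ?_ (Finset.single_le_sum (fun χ _ => mul_self_nonneg (beta F χ)) (hmem i))
      rw [hb, h0, zero_add, F.sgn_sq]
    · refine le_trans ?_ (Finset.single_le_sum (fun χ _ => mul_self_nonneg (beta F χ)) (hmem F.z))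
      exact Int.add_one_le_of_lt (mul_self_pos.2 h0)
  push_cast at h
  omega

theorem inner_orbit (F : Fam A) (χ : Cfsg.IrrCharacter G) {j : Fin F.n}
    {lam : Cfsg.IrrCharacter A} (h : ∃ g : NA, (F.r j : A → ℂ) ∘ cj A g = (lam : A → ℂ)) :
    Cfsg.classInner (fun x : A => (χ : G → ℂ) x) (lam : A → ℂ) =
      Cfsg.classInner (fun x : A => (χ : G → ℂ) x) (F.r F.z : A → ℂ) +
        (F.sgn : ℂ) * ((if χ = F.θ j then 1 else 0) - (if χ = F.θ F.z then 1 else 0)) := by
  obtain ⟨g, hg⟩ := h
  rw [← hg, CA.classInner_comp_cj g (CA.res_comp_cj (IsIrr.isClassFunction χ.2) g),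
    ← sub_eq_iff_eq_add', ← classInner_sub_right, ← classInner_conj_symm,
    ← frobenius_reciprocity A _ (IsIrr.isClassFunction χ.2), F.rel, classInner_conj_symm,
    classInner_smul_right, classInner_sub_right, classInner_irr, classInner_irr, map_intCast]

/-- Outside the family a character takes the value `beta` on `A \ 1`. -/
theorem apply_eq_beta (F : Fam A) (χ : Cfsg.IrrCharacter G) (hχ : ∀ j, χ ≠ F.θ j) {a : A}
    (ha : a ≠ 1) : (χ : G → ℂ) a = (beta F χ : ℂ) := by
  classical
  have := Fintype.ofFinite (Cfsg.IrrCharacter A)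
  set h : A → ℂ := fun x => (χ : G → ℂ) x with hh
  set β : ℂ := (beta F χ : ℂ) with hβ
  have hβ' : β = Cfsg.classInner h (trivChar A : A → ℂ) -
      Cfsg.classInner h (F.r F.z : A → ℂ) := by
    rw [hβ, ← map_intCast (starRingEnd ℂ) (beta F χ), ← beta_spec, psiOf,
      frobenius_reciprocity A _ (IsIrr.isClassFunction χ.2), classInner_conj_symm,
      classInner_sub_right]
    rfl
  have hcl : Cfsg.IsClassFunction A (h - β • (trivChar A : A → ℂ)) := fun x y => by
    rw [comm hA y x, mul_inv_cancel_right]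
  have key : ∀ lam : Cfsg.IrrCharacter A,
      Cfsg.classInner (h - β • (trivChar A : A → ℂ)) (lam : A → ℂ) =
        Cfsg.classInner h (F.r F.z : A → ℂ) := by
    intro lam
    rw [classInner_sub_left, classInner_smul_left, classInner_irr]
    by_cases hlam : lam = trivChar A
    · rw [hlam, if_pos rfl, hβ']; ring
    · obtain ⟨j, hj⟩ := F.r_all lam hlam
      rw [if_neg (Ne.symm hlam), mul_zero, sub_zero, inner_orbit hA F χ hj, if_neg (hχ j),
        if_neg (hχ F.z), sub_zero, mul_zero, add_zero]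
  have h0 := classFunction_apply_eq_sum hcl a
  simp only [key, ← Finset.mul_sum] at h0
  have hreg : ∑ lam : Cfsg.IrrCharacter A, (lam : A → ℂ) a = 0 := by
    have := sum_degree_mul_apply_of_ne_one ha
    simpa [degree_one hA] using this
  rw [hreg, mul_zero] at h0
  simpa [sub_eq_zero, hh] using h0

/-- The family is constant off the conjugates of `A \ 1`. -/
theorem theta_eq_off (F : Fam A) (j : Fin F.n) {y : G}
    (hy : ∀ x : G, x⁻¹ * y * x ∈ A → x⁻¹ * y * x = 1) :
    (F.θ j : G → ℂ) y = (F.θ F.z : G → ℂ) y := by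
  have h := congrFun (F.rel j) y
  rw [CA.indFun_eq_zero (by rw [Pi.sub_apply, degree_one hA, degree_one hA, sub_self]) hy,
    Pi.smul_apply, Pi.sub_apply, smul_eq_mul, eq_comm, mul_eq_zero, sub_eq_zero] at h
  refine h.resolve_left fun hz => ?_
  have := F.sgn_sq
  rw [Int.cast_eq_zero] at hz
  simp [hz] at this

omit hA in
/-- Galois twists fixing `A` fix the family. -/
theorem theta_pow (F : Fam A) (i : Fin F.n) {k : ℕ} (hk : k.Coprime (Nat.card G))
    (hk1 : ∀ a ∈ A, a ^ k = a) (y : G) : (F.θ i : G → ℂ) (y ^ k) = (F.θ i : G → ℂ) y := by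
  classical
  let χ : Cfsg.IrrCharacter G := ⟨fun g => (F.θ i : G → ℂ) (g ^ k), isIrrCharacter_pow (F.θ i).2 hk⟩
  suffices hχ : χ = F.θ i from congrFun (congrArg Subtype.val hχ) y
  have key : ∀ j, Cfsg.classInner (F.θ j : G → ℂ) (χ : G → ℂ) -
        Cfsg.classInner (F.θ F.z : G → ℂ) (χ : G → ℂ) =
      Cfsg.classInner (F.θ j : G → ℂ) (F.θ i : G → ℂ) -
        Cfsg.classInner (F.θ F.z : G → ℂ) (F.θ i : G → ℂ) := by
    intro j
    have hs0 : (F.sgn : ℂ) ≠ 0 := fun hz => by
      have := F.sgn_sq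
      rw [Int.cast_eq_zero] at hz
      simp [hz] at this
    refine mul_left_cancel₀ hs0 ?_
    rw [← classInner_sub_left, ← classInner_sub_left, ← classInner_smul_left,
      ← classInner_smul_left, ← F.rel, frobenius_reciprocity A _ (IsIrr.isClassFunction χ.2),
      frobenius_reciprocity A _ (IsIrr.isClassFunction (F.θ i).2)]
    refine congrArg _ (funext fun a => ?_)
    show (F.θ i : G → ℂ) ((a : G) ^ k) = _
    rw [hk1 a a.2]
  obtain ⟨i', hi'⟩ : ∃ i', i' ≠ F.z := by
    haveI := Fin.nontrivial_iff_two_le.mpr F.two_le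
    exact exists_ne F.z
  by_cases hiz : i = F.z
  · subst hiz
    have h := key i'
    rw [classInner_irr, classInner_irr, classInner_irr, classInner_irr,
      if_neg (fun e => hi' (F.θ_inj e)), if_pos rfl] at h
    by_contra hne
    rw [if_neg (fun e : F.θ F.z = χ => hne e.symm)] at h
    split_ifs at h <;> norm_num at h
  · have h := key i
    rw [classInner_irr, classInner_irr, classInner_irr, classInner_irr, if_pos rfl,
      if_neg (fun e => hiz (F.θ_inj e).symm)] at h
    by_contra hne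
    rw [if_neg (fun e : F.θ i = χ => hne e.symm)] at h
    split_ifs at h <;> norm_num at h

end CfsgLib.Known.ReeSquare
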