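import Cfsg.Agent.Lib.Known.ReeSquare.Central
import Mathlib.FieldTheory.Finite.Basic

/-!
# Products of two conjugates inside the centraliser of an involution
-/

set_option autoImplicit false

namespace CfsgLib.Known.ReeSquare

open Cfsg.Lie CfsgLib.Lie CfsgLib.Lie.Chev CfsgLib.Lie.Chev.TwGroups CfsgLib.Lie.Ree
open scoped MatrixGroups

variable {K : Type*} [Field K] [Fintype K]

theorem exists_sq_combination (h2 : (2 : K) ≠ 0) {α β : K} (hα : α ≠ 0) (hβ : β ≠ 0) (γ : K) :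
    ∃ x y : K, α * x ^ 2 + β * y ^ 2 = γ := by
  open Polynomial in
  obtain ⟨x, y, h⟩ := FiniteField.exists_root_sum_quadratic (f := C α * X ^ 2 + C (-γ))
    (g := C β * X ^ 2) (by rw [degree_add_C (by rw [degree_C_mul_X_pow 2 hα]; norm_num),
      degree_C_mul_X_pow 2 hα]; rfl) (by rw [degree_C_mul_X_pow 2 hβ]; rfl)
    (FiniteField.odd_card_of_char_ne_two fun h => h2 (by
      have : CharP K 2 := h ▸ ringChar.charP K
      exact CharTwo.two_eq_zero))
  refine ⟨x, y, ?_⟩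
  simp only [Polynomial.eval_add, Polynomial.eval_mul, Polynomial.eval_C, Polynomial.eval_pow,
    Polynomial.eval_X] at h
  linear_combination h

/-- A matrix with trace `τ`, `τ² ≠ 4`, is conjugate to the companion matrix. -/
theorem exists_conj_companion (h2 : (2 : K) ≠ 0) {h : SL(2, K)} {τ : K}
    (hτ : h.1 0 0 + h.1 1 1 = τ) (hne : τ ^ 2 ≠ 4) :
    ∃ P : SL(2, K), h.1 * P.1 = P.1 * !![0, -1; 1, τ] := by
  obtain ⟨a, ha⟩ : ∃ a, a = h.1 0 0 := ⟨_, rfl⟩
  obtain ⟨b, hb⟩ : ∃ b, b = h.1 0 1 := ⟨_, rfl⟩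
  obtain ⟨c, hc⟩ : ∃ c, c = h.1 1 0 := ⟨_, rfl⟩
  obtain ⟨d, hd⟩ : ∃ d, d = h.1 1 1 := ⟨_, rfl⟩
  have hdet : a * d - b * c = 1 := by
    have := h.2
    rw [Matrix.det_fin_two] at this
    rw [ha, hb, hc, hd]; exact this
  rw [← ha, ← hd] at hτ
  obtain ⟨x, y, hxy⟩ : ∃ x y : K, x * (c * x + d * y) - y * (a * x + b * y) = 1 := by
    by_cases hc0 : c = 0
    · have had : d - a ≠ 0 := fun e => hne (by
        rw [hc0] at hdet
        rw [← hτ]
        linear_combination (d - a) * e + 4 * hdet)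
      refine ⟨(1 + b) / (d - a), 1, ?_⟩
      rw [hc0]
      field_simp
      ring
    · have hD : (d - a) ^ 2 + 4 * b * c ≠ 0 := fun e => hne (by
        rw [← hτ]; linear_combination e + 4 * hdet)
      have h4 : (4 : K) ≠ 0 := by rw [show (4 : K) = 2 * 2 by norm_num]; exact mul_ne_zero h2 h2
      obtain ⟨X, Y, hXY⟩ := exists_sq_combination h2 hc0
        (div_ne_zero (neg_ne_zero.2 hD) (mul_ne_zero h4 hc0)) 1
      refine ⟨X - (d - a) * Y / (2 * c), Y, ?_⟩
      rw [← hXY]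
      field_simp
      ring
  refine ⟨⟨!![x, a * x + b * y; y, c * x + d * y], by
    rw [Matrix.det_fin_two]; simp; linear_combination hxy⟩, ?_⟩
  ext i j
  fin_cases i <;> fin_cases j <;>
    simp [Matrix.mul_apply, Fin.sum_univ_two, ← ha, ← hb, ← hc, ← hd, ← hτ]
  · linear_combination -x * hdet
  · linear_combination -y * hdet

variable {m : ℕ} (hK : Fintype.card K = 3 ^ (2 * m + 1))
include hK

theorem three_zero : (3 : K) = 0 := three_eq_zero_G2 hK

/-- Same trace up to sign gives conjugate images. -/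
theorem exists_phi_conj {h k : SL(2, K)} {τ : K} (hτ : h.1 0 0 + h.1 1 1 = τ)
    (hne : τ ^ 2 ≠ 4) (hk : k.1 0 0 + k.1 1 1 = τ ∨ k.1 0 0 + k.1 1 1 = -τ) :
    ∃ p : SL(2, K), phi hK k = phi hK p * phi hK h * (phi hK p)⁻¹ := by
  have h2 := two_ne hK
  obtain ⟨k', hk'τ, hk'⟩ : ∃ k' : SL(2, K), k'.1 0 0 + k'.1 1 1 = τ ∧ phi hK k' = phi hK k := by
    rcases hk with hk | hk
    · exact ⟨k, hk, rfl⟩
    · refine ⟨⟨(-1 : K) • k.1, by rw [Matrix.det_smul, k.2]; simp⟩, ?_,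
        phi_neg hK k (-1) (by ring) rfl⟩
      simp only [Matrix.smul_apply, smul_eq_mul]
      linear_combination -hk
  obtain ⟨P, hP⟩ := exists_conj_companion h2 hτ hne
  obtain ⟨Q, hQ⟩ := exists_conj_companion h2 hk'τ hne
  refine ⟨Q * P⁻¹, ?_⟩
  rw [← hk', ← map_inv, ← map_mul, ← map_mul]
  congr 1
  rw [eq_mul_inv_iff_mul_eq]
  apply Subtype.ext
  rw [Matrix.SpecialLinearGroup.coe_mul, Matrix.SpecialLinearGroup.coe_mul,
    Matrix.SpecialLinearGroup.coe_mul]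
  have hPI : P.1 * (P⁻¹).1 = 1 := by
    rw [← Matrix.SpecialLinearGroup.coe_mul, mul_inv_cancel, Matrix.SpecialLinearGroup.coe_one]
  have hIP : (P⁻¹).1 * P.1 = 1 := by
    rw [← Matrix.SpecialLinearGroup.coe_mul, inv_mul_cancel, Matrix.SpecialLinearGroup.coe_one]
  calc k'.1 * (Q.1 * (P⁻¹).1) = Q.1 * !![0, -1; 1, τ] * (P⁻¹).1 := by rw [← mul_assoc, hQ]
    _ = Q.1 * ((P⁻¹).1 * P.1) * !![0, -1; 1, τ] * (P⁻¹).1 := by rw [hIP, mul_one]
    _ = Q.1 * (P⁻¹).1 * (P.1 * !![0, -1; 1, τ]) * (P⁻¹).1 := by simp only [mul_assoc]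
    _ = Q.1 * (P⁻¹).1 * (h.1 * P.1) * (P⁻¹).1 := by rw [hP]
    _ = Q.1 * (P⁻¹).1 * h.1 := by simp only [mul_assoc, hPI, mul_one]

/-- Elements of `C(j)` of order prime to three and greater than two square onto the targets. -/
theorem inSquare_linear {x : RG K m} (hx : x ∈ Subgroup.centralizer {jEl hK})
    (h3 : ¬ 3 ∣ orderOf x) (hx2 : x * x ≠ 1) :
    (∀ u : K, u ≠ 0 → InSquare x (uEl m 0 u 0)) ∧
      ∃ z : RG K m, z * z = 1 ∧ z ≠ 1 ∧ InSquare x z := by
  obtain ⟨h, hh⟩ := centralizer_dichotomy hK hx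
  obtain ⟨ε, hε, hjε, hxε⟩ : ∃ ε : RG K m, ε * ε = 1 ∧
      (∀ k, ε * phi hK k = phi hK k * ε) ∧ x = ε * phi hK h := by
    rcases hh with e | e
    · exact ⟨1, one_mul _, fun _ => by rw [one_mul, mul_one], by rw [e, one_mul]⟩
    · exact ⟨jEl hK, jEl_mul_self hK, phi_commute_jEl hK, e⟩
  obtain ⟨τ, hτ⟩ : ∃ τ, h.1 0 0 + h.1 1 1 = τ := ⟨_, rfl⟩
  have hdet : h.1 0 0 * h.1 1 1 - h.1 0 1 * h.1 1 0 = 1 := by
    have := h.2; rwa [Matrix.det_fin_two] at this
  have hxx : x * x = phi hK (h * h) := by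
    rw [hxε, map_mul, mul_assoc, ← mul_assoc (phi hK h) ε, ← hjε, mul_assoc, ← mul_assoc, hε, one_mul]
  have hτ0 : τ ≠ 0 := by
    intro e
    apply hx2
    have hsq : (h * h).1 = (-1 : K) • (1 : Matrix (Fin 2) (Fin 2) K) := by
      rw [Matrix.SpecialLinearGroup.coe_mul]
      ext i j
      fin_cases i <;> fin_cases j <;> simp [Matrix.mul_apply, Fin.sum_univ_two]
      · linear_combination -hdet + h.1 0 0 * hτ + h.1 0 0 * e
      · linear_combination h.1 0 1 * hτ + h.1 0 1 * e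
      · linear_combination h.1 1 0 * hτ + h.1 1 0 * e
      · linear_combination -hdet + h.1 1 1 * hτ + h.1 1 1 * e
    rw [hxx, phi_neg hK (1 : SL(2, K)) (-1) (by ring) (h' := h * h)
      (by rw [hsq, Matrix.SpecialLinearGroup.coe_one]), map_one]
  have hne : τ ^ 2 ≠ 4 := by
    intro e
    obtain ⟨r, hr, hτr⟩ : ∃ r : K, r ^ 2 = 1 ∧ τ = 2 * r := by
      refine ⟨τ / 2, ?_, by field_simp [two_ne hK]⟩
      field_simp [two_ne hK]
      linear_combination e
    have h3K := three_zero hK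
    have hcube : (h * (h * h)).1 = r • (1 : Matrix (Fin 2) (Fin 2) K) := by
      rw [Matrix.SpecialLinearGroup.coe_mul, Matrix.SpecialLinearGroup.coe_mul]
      ext i j
      fin_cases i <;> fin_cases j <;> simp [Matrix.mul_apply, Fin.sum_univ_two]
      all_goals
        first
        | linear_combination (h.1 0 0 * (h.1 0 0 + h.1 1 1 + τ) - 1) * hτ
            - (2 * h.1 0 0 + h.1 1 1) * hdet + h.1 0 0 * e + (h.1 0 0 - r) * h3K - hτr
        | linear_combination h.1 0 1 * (h.1 0 0 + h.1 1 1 + τ) * hτ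
            - h.1 0 1 * hdet + h.1 0 1 * e + h.1 0 1 * h3K
        | linear_combination h.1 1 0 * (h.1 0 0 + h.1 1 1 + τ) * hτ
            - h.1 1 0 * hdet + h.1 1 0 * e + h.1 1 0 * h3K
        | linear_combination (h.1 1 1 * (h.1 0 0 + h.1 1 1 + τ) - 1) * hτ
            - (h.1 0 0 + 2 * h.1 1 1) * hdet + h.1 1 1 * e + (h.1 1 1 - r) * h3K - hτr
    have e6 : x ^ 6 = 1 := by
      have e3 : phi hK h ^ 3 = 1 := by
        rw [← map_pow, pow_succ', sq, phi_neg hK (1 : SL(2, K)) r hr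
          (h' := h * (h * h)) (by rw [hcube, Matrix.SpecialLinearGroup.coe_one]), map_one]
      rw [show (6 : ℕ) = 2 * 3 by rfl, pow_mul, sq, hxx, map_mul, ← sq, ← pow_mul,
        mul_comm 2 3, pow_mul, e3, one_pow]
    have hd : orderOf x ∣ 6 := orderOf_dvd_of_pow_eq_one e6
    apply hx2
    rw [← sq]
    refine orderOf_dvd_iff_pow_eq_one.1 ?_
    rcases (show orderOf x = 1 ∨ orderOf x = 2 ∨ orderOf x = 3 ∨ orderOf x = 6 by
      have hle := Nat.le_of_dvd (by norm_num) hd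
      have hp := orderOf_pos x
      interval_cases hox : orderOf x <;> first | omega | (exfalso; revert hd; decide)) with e | e | e | e
    · rw [e]; norm_num
    · rw [e]
    · exact absurd (by rw [e]) h3
    · exact absurd (by rw [e]; norm_num) h3
  have key : ∀ T : SL(2, K), (∃ k : SL(2, K), k.1 0 0 + k.1 1 1 = τ ∧
      ((k⁻¹ * T).1 0 0 + (k⁻¹ * T).1 1 1 = -τ)) → InSquare x (phi hK T) := by
    rintro T ⟨k, hk, hk'⟩
    obtain ⟨p, hp⟩ := exists_phi_conj hK hτ hne (k := k) (Or.inl hk)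
    obtain ⟨p', hp'⟩ := exists_phi_conj hK hτ hne (k := k⁻¹ * T) (Or.inr hk')
    refine ⟨phi hK p, phi hK p', ?_⟩
    have hT : phi hK T = phi hK k * phi hK (k⁻¹ * T) := by rw [← map_mul, mul_inv_cancel_left]
    have hc : ∀ q, phi hK q * x * (phi hK q)⁻¹ = ε * (phi hK q * phi hK h * (phi hK q)⁻¹) := fun q => by
      rw [hxε]; simp only [← mul_assoc]; rw [← hjε q]
    rw [hc, hc, ← hp, ← hp', hT]
    calc phi hK k * phi hK (k⁻¹ * T) = ε * ε * (phi hK k * phi hK (k⁻¹ * T)) := by rw [hε, one_mul]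
      _ = ε * (ε * phi hK k) * phi hK (k⁻¹ * T) := by simp only [mul_assoc]
      _ = ε * (phi hK k * ε) * phi hK (k⁻¹ * T) := by rw [← hjε]
      _ = ε * phi hK k * (ε * phi hK (k⁻¹ * T)) := by simp only [mul_assoc]
  have hinv : ∀ (k : SL(2, K)) (T : SL(2, K)), (k⁻¹ * T).1 0 0 + (k⁻¹ * T).1 1 1 =
      k.1 1 1 * T.1 0 0 - k.1 0 1 * T.1 1 0 - k.1 1 0 * T.1 0 1 + k.1 0 0 * T.1 1 1 := by
    intro k T
    rw [Matrix.SpecialLinearGroup.coe_mul, Matrix.SpecialLinearGroup.coe_inv, Matrix.adjugate_fin_two]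
    simp [Matrix.mul_apply, Fin.sum_univ_two]
    ring
  refine ⟨fun u hu => ?_, ?_⟩
  · rw [← phi_upper hK]
    have hc : 2 * τ / u ≠ 0 := div_ne_zero (mul_ne_zero (two_ne hK) hτ0) hu
    refine key _ ⟨⟨!![0, -1 / (2 * τ / u); 2 * τ / u, τ], by
      rw [Matrix.det_fin_two]; simp; field_simp [hc]; exact div_self (two_ne hK)⟩, by simp, ?_⟩
    refine (hinv _ (slU u)).trans ?_
    rw [slU_val]
    simp
    field_simp
    ring
  · let w : SL(2, K) := ⟨!![0, 1; -1, 0], by simp [Matrix.det_fin_two]⟩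
    obtain ⟨X, Y, hXY⟩ := exists_sq_combination (two_ne hK) (one_ne_zero (α := K))
      (one_ne_zero (α := K)) (τ ^ 2 / 2 - 1)
    obtain ⟨a, c, hac⟩ : ∃ a c : K, a * (τ - a) - (c - τ) * c = 1 := by
      refine ⟨X + τ / 2, Y + τ / 2, ?_⟩
      field_simp [two_ne hK] at hXY ⊢
      linear_combination -2 * hXY
    refine ⟨phi hK w, ?_, fun e => ?_, key w ⟨⟨!![a, c - τ; c, τ - a], by
      rw [Matrix.det_fin_two]; simp; linear_combination hac⟩, by simp, ?_⟩⟩
    · rw [← map_mul, phi_neg hK (1 : SL(2, K)) (-1) (by ring) (h' := w * w) ?_, map_one]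
      ext i j
      rw [Matrix.SpecialLinearGroup.coe_mul]
      fin_cases i <;> fin_cases j <;> simp [w, Matrix.mul_apply, Fin.sum_univ_two]
    · obtain ⟨r, -, hr⟩ := phi_ker hK e
      simpa [w] using congrFun (congrFun hr 0) 1
    · refine (hinv _ w).trans ?_
      simp [w]

end CfsgLib.Known.ReeSquare
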