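import Cfsg.Agent.Lib.Known.ReeSquare.Vanish
import Cfsg.Agent.Lib.Known.ReeSquare.Linear
import Cfsg.Agent.Lib.Known.ReeSquare.Central

/-!
# The square of a class of elements of order prime to three in a small Ree group
-/

set_option autoImplicit false

open scoped Classical

namespace CfsgLib.Known.ReeSquare

open Cfsg.Lie CfsgLib.Lie CfsgLib.Lie.Chev CfsgLib.Lie.Chev.TwGroups CfsgLib.Lie.Ree CfsgLib.Char
  CfsgLib.CA

variable {K : Type*} [Field K] [Fintype K] {m : ℕ} (hK : Fintype.card K = 3 ^ (2 * m + 1))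
include hK

theorem inSquare_six_of_weight (hm : 1 ≤ m) [Fintype (RG K m)]
    [Fintype (Cfsg.IrrCharacter (RG K m))] {x g : RG K m} (hx : Kind hK x)
    (hw : weight x g ^ 2 < (((3 : ℝ) ^ (2 * m + 1)) ^ 2 - 3 ^ (2 * m + 1) + 1) ^ 2) :
    InSquare x g := by
  obtain ⟨t, ht⟩ := exists_inverted hK hm hx
  have hD : (0 : ℝ) < ((3 : ℝ) ^ (2 * m + 1)) ^ 2 - 3 ^ (2 * m + 1) + 1 := by
    nlinarith [sq_nonneg ((3 : ℝ) ^ (2 * m + 1) - 1), pow_pos (show (0 : ℝ) < 3 by norm_num) (2 * m + 1)]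
  exact inSquare_of_weight_lt ht.isConj_inv hD (fun χ hχ => two_le_degree hK hm χ hχ)
    (abs_lt_of_sq_lt_sq' hw hD.le).2

section Six

variable {A : Subgroup (RG K m)} (hA : SixTorus A) {x : RG K m} (hx : x ∈ A) (hx1 : x ≠ 1)
  (hn : Nat.card A = 3 ^ (2 * m + 1) - 3 ^ (m + 1) + 1 ∨
    Nat.card A = 3 ^ (2 * m + 1) + 3 ^ (m + 1) + 1)
include hA hx hx1 hn

theorem seven_lt_card (hm : 1 ≤ m) : 6 + 1 < Nat.card A := by
  have := Fintype.ofFinite (RG K m)
  have := Fintype.ofFinite (Cfsg.IrrCharacter (RG K m))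
  have h := card_six_ge hK hA hn
  obtain ⟨r, hr, hq, hr1⟩ := q_facts hK hm
  rw [hq, hr1] at h
  exact_mod_cast (show (7 : ℝ) < (Nat.card A : ℝ) by nlinarith)

/-- Non-central elements of order three against a class of a large torus. -/
theorem inSquare_six_noncentral (hm : 1 ≤ m) {u : K} (hu : u ≠ 0) :
    InSquare x (uEl m 0 u 0) := by
  have := Fintype.ofFinite (RG K m)
  have := Fintype.ofFinite (Cfsg.IrrCharacter (RG K m))
  obtain ⟨F⟩ := exists_fam (selfCent_six hK hA)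
    (by rw [relIndex_six hK hA]; exact seven_lt_card hK hA hx hx1 hn hm)
  have h3 : orderOf (uEl m 0 u 0 : RG K m) = 3 := by
    rcases orderOf_uEl hK 0 u 0 with ⟨-, e⟩ | ⟨e, -⟩ | ⟨-, e⟩
    · exact absurd e.2.1 hu
    · exact e
    · exact absurd rfl e
  have hav : Avoids A (uEl m 0 u 0 : RG K m) := avoids_six hK hA fun hs =>
    (six_excludes hK hm hs).2.2.1 (dvd_of_eq h3.symm)
  refine inSquare_six_of_weight hK hm (.six A hA hx hx1 hn) ?_
  refine (weight_sq_le (selfCent_six hK hA) F (relIndex_six hK hA) (a := ⟨x, hx⟩)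
    (fun e => hx1 (congrArg Subtype.val e)) hav).trans_lt ?_
  obtain ⟨r, hr, hq, hr1⟩ := q_facts hK hm
  have h6 : ((6 * F.n + 1 : ℕ) : ℝ) = (Nat.card A : ℝ) := by rw [card_six_mul hK hA F]
  push_cast at h6
  have hn0 : (0 : ℝ) < F.n := by exact_mod_cast (two_pos.trans_le F.two_le)
  have hM : ((Nat.card A : ℝ) - 1) ^ 2 / F.n = 6 * ((Nat.card A : ℝ) - 1) := by
    rw [← h6]; field_simp; ring
  have hle : (Nat.card A : ℝ) ≤ (3 : ℝ) ^ (2 * m + 1) + 3 ^ (m + 1) + 1 := by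
    rcases hn with e | e <;> rw [e]
    · have : 3 ^ (2 * m + 1) - 3 ^ (m + 1) + 1 ≤ 3 ^ (2 * m + 1) + 3 ^ (m + 1) + 1 :=
        Nat.succ_le_succ ((Nat.sub_le _ _).trans (Nat.le_add_right _ _))
      exact_mod_cast this
    · push_cast; exact le_rfl
  have hC : (Nat.card (Subgroup.centralizer ({uEl m 0 u 0} : Set (RG K m))) : ℝ) ≤
      2 * ((3 : ℝ) ^ (2 * m + 1)) ^ 2 := by exact_mod_cast card_centralizer_noncentral hK hu
  rw [hq, hr1] at hle
  rw [hq] at hC ⊢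
  have hC0 : (1 : ℝ) ≤ (Nat.card (Subgroup.centralizer ({uEl m 0 u 0} : Set (RG K m))) : ℝ) := by
    exact_mod_cast Nat.card_pos
  rw [hM]
  have h0 : (0 : ℝ) ≤ 25 + 6 * ((Nat.card A : ℝ) - 1) := by linarith
  calc (25 + 6 * ((Nat.card A : ℝ) - 1)) *
        ((Nat.card (Subgroup.centralizer ({uEl m 0 u 0} : Set (RG K m))) : ℝ) - 1)
      ≤ (25 + 6 * (3 * r ^ 2 + 3 * r)) * (2 * (3 * r ^ 2) ^ 2 - 1) :=
        mul_le_mul (by linarith) (by linarith) (by linarith) (by nlinarith)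
    _ < ((3 * r ^ 2) ^ 2 - 3 * r ^ 2 + 1) ^ 2 := by
      obtain ⟨t, ht, rfl⟩ : ∃ t : ℝ, 0 ≤ t ∧ r = t + 3 := ⟨r - 3, by linarith, by ring⟩
      ring_nf
      nlinarith [pow_nonneg ht 2, pow_nonneg ht 3, pow_nonneg ht 4, pow_nonneg ht 5,
        pow_nonneg ht 6, pow_nonneg ht 7, pow_nonneg ht 8]

/-- Involutions against a class of a large torus. -/
theorem inSquare_six_involution (hm : 1 ≤ m) : InSquare x (jEl hK) := by
  have := Fintype.ofFinite (RG K m)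
  have := Fintype.ofFinite (Cfsg.IrrCharacter (RG K m))
  obtain ⟨F⟩ := exists_fam (selfCent_six hK hA)
    (by rw [relIndex_six hK hA]; exact seven_lt_card hK hA hx hx1 hn hm)
  obtain ⟨T⟩ := exists_table hK hA F hm hn
  have hav : Avoids A (jEl hK) := avoids_six hK hA (not_shares_six_of_dvd hK hm
    (Or.inl (orderOf_dvd_of_pow_eq_one (by rw [sq, jEl_mul_self hK]))))
  refine inSquare_six_of_weight hK hm (.six A hA hx hx1 hn) ?_
  have h0 : (F.θ F.z : RG K m → ℂ) (jEl hK) = 0 := by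
    rw [T.inv, J_eq_zero hK hA T hm hn, Int.cast_zero]
  refine (weight_sq_le_of_zero (selfCent_six hK hA) F (relIndex_six hK hA) (a := ⟨x, hx⟩)
    (fun e => hx1 (congrArg Subtype.val e)) hav h0).trans_lt ?_
  obtain ⟨r, hr, hq, -⟩ := q_facts hK hm
  rw [card_centralizer_jEl hK]
  push_cast [Nat.cast_sub (Nat.one_le_pow (2 * m + 1) 3 three_pos)]
  rw [hq]
  obtain ⟨t, ht, e⟩ : ∃ t : ℝ, 0 ≤ t ∧ 3 * r ^ 2 = t + 27 := ⟨3 * r ^ 2 - 27, by nlinarith, by ring⟩
  rw [e]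
  nlinarith [pow_nonneg ht 2, pow_nonneg ht 3, pow_nonneg ht 4]

end Six

/-- Elements of the split and quarter tori commute with `j`. -/
theorem mem_centralizer_jEl_of_kind {x : RG K m} (h : (∃ c, x = hEl hK c) ∨ x ∈ TD hK) :
    x ∈ Subgroup.centralizer {jEl hK} := by
  rw [Subgroup.mem_centralizer_singleton_iff]
  rcases h with ⟨c, rfl⟩ | h
  · exact HR_comm hK (hEl_mem hK c) (hEl_mem hK _)
  · exact TD_comm hK h (jEl_iEl_mem hK).1.1

theorem linear_of_kind {x : RG K m} (hx : Kind hK x) (h3 : ¬ 3 ∣ orderOf x) (hx2 : x * x ≠ 1) :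
    ((∀ u : K, u ≠ 0 → InSquare x (uEl m 0 u 0)) ∧
      ∃ z : RG K m, z * z = 1 ∧ z ≠ 1 ∧ InSquare x z) ∨
    ∃ A : Subgroup (RG K m), SixTorus A ∧ x ∈ A ∧ x ≠ 1 ∧
      (Nat.card A = 3 ^ (2 * m + 1) - 3 ^ (m + 1) + 1 ∨
        Nat.card A = 3 ^ (2 * m + 1) + 3 ^ (m + 1) + 1) := by
  rcases hx with ⟨c, -, rfl⟩ | ⟨h, -⟩ | ⟨A, hA, h, h1, hn⟩
  · exact Or.inl (inSquare_linear hK (mem_centralizer_jEl_of_kind hK (Or.inl ⟨c, rfl⟩)) h3 hx2)
  · exact Or.inl (inSquare_linear hK (mem_centralizer_jEl_of_kind hK (Or.inr h)) h3 hx2)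
  · exact Or.inr ⟨A, hA, h, h1, hn⟩

/-- Every non-identity element is a product of two conjugates of `x`. -/
theorem inSquare_of_prime_to_three (hm : 1 ≤ m) {x : RG K m} (hx2 : 2 < orderOf x)
    (hx3 : ¬ 3 ∣ orderOf x) {g : RG K m} (hg : g ≠ 1) : InSquare x g := by
  obtain ⟨y, hy, hk⟩ := exists_kind hK hm hx3 hx2
  have ho : orderOf y = orderOf x := by
    obtain ⟨c, rfl⟩ := isConj_iff.1 hy
    exact ((MulEquiv.orderOf_eq (MulAut.conj c) y).symm.trans (by simp))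
  refine InSquare.of_isConj_left hy ?_
  have hy2 : y * y ≠ 1 := fun e => by
    have := Nat.le_of_dvd two_pos (orderOf_dvd_of_pow_eq_one (n := 2) (x := y) (by rwa [sq]))
    omega
  have hy3 : ¬ 3 ∣ orderOf y := by rwa [ho]
  obtain ⟨t, ht⟩ := exists_inverted hK hm hk
  by_cases h2 : orderOf g = 2
  · have hgg : g * g = 1 := by rw [← sq, ← h2]; exact pow_orderOf_eq_one g
    have hj := isConj_jEl hK hm g hgg hg
    rcases linear_of_kind hK hk hy3 hy2 with ⟨-, z, hz, hz1, hzs⟩ | ⟨A, hA, h, h1, hn⟩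
    · exact hzs.of_isConj ((isConj_jEl hK hm z hz hz1).symm.trans hj)
    · exact (inSquare_six_involution hK hA h h1 hn hm).of_isConj hj
  by_cases h3 : orderOf g = 3
  · rcases three_forms hK hm h3 with hc | ⟨u, hu, hc⟩
    · exact (inSquare_central hK hm ht one_ne_zero).of_isConj hc
    · rcases linear_of_kind hK hk hy3 hy2 with ⟨hl, -⟩ | ⟨A, hA, h, h1, hn⟩
      · exact (hl u hu).of_isConj hc
      · exact (inSquare_six_noncentral hK hA h h1 hn hm hu).of_isConj hc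
  refine inSquare_of_small hK hm hk ?_
  by_cases h3' : 3 ∣ orderOf g
  · exact card_centralizer_six_nine hK hm h3' h3
  · refine (card_centralizer_semisimple hK hm h3' hg h2).trans ?_
    have h1 : 3 ^ (m + 1) ≤ 3 ^ (2 * m + 1) := Nat.pow_le_pow_right three_pos (by omega)
    have h2 := Nat.one_le_pow (2 * m + 1) 3 three_pos
    omega

end CfsgLib.Known.ReeSquare
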