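import Cfsg.Agent.Lib.Known.ReeSquare.Exceptional

/-!
# The values of an exceptional character on the split and quarter tori: relations
-/

set_option autoImplicit false

open scoped Classical

namespace CfsgLib.Known.ReeSquare

open Cfsg.Lie CfsgLib.Lie CfsgLib.Lie.Chev CfsgLib.Lie.Chev.TwGroups CfsgLib.Lie.Ree CfsgLib.Char
  CfsgLib.CA
open scoped ComplexConjugate

section Decomp

variable {G : Type*} [Group G]

/-- Splitting a commutative torus into an elementary part and an odd part. -/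
theorem cellDecomp_of_odd {T A₀ : Subgroup G} {n : ℕ} (hn : n % 2 = 1)
    (hcomm : ∀ a ∈ T, ∀ b ∈ T, a * b = b * a) (hexp : ∀ t ∈ T, t ^ (2 * n) = 1)
    (hA : ∀ g, g ∈ A₀ ↔ g ∈ T ∧ g ^ n = 1) {E : Finset G}
    (hE : ∀ e, e ∈ E ↔ e ∈ T ∧ e * e = 1) : CellDecomp T A₀ E := by
  have hodd : ∀ e ∈ E, e ^ n = e := fun e he => by
    rw [← Nat.div_add_mod n 2, hn, pow_succ, pow_mul, sq, ((hE e).1 he).2, one_pow, one_mul]
  refine ⟨fun e he a ha => mul_mem ((hE e).1 he).1 ((hA a).1 ha).1,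
    fun e he e' he' a ha a' ha' h => ?_, fun t ht => ?_⟩
  · have h' := congrArg (· ^ n) h
    simp only [Commute.mul_pow (hcomm e ((hE e).1 he).1 a ((hA a).1 ha).1),
      Commute.mul_pow (hcomm e' ((hE e').1 he').1 a' ((hA a').1 ha').1), ((hA a).1 ha).2,
      ((hA a').1 ha').2, mul_one, hodd e he, hodd e' he'] at h'
    exact ⟨h', mul_left_cancel (h' ▸ h : e' * a = e' * a')⟩
  · have he : t ^ n ∈ E := (hE _).2 ⟨pow_mem ht n, by rw [← pow_add, ← two_mul]; exact hexp t ht⟩
    refine ⟨t ^ n, he, t ^ n * t, (hA _).2 ⟨mul_mem (pow_mem ht n) ht, ?_⟩, ?_⟩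
    · rw [Commute.mul_pow (hcomm _ (pow_mem ht n) _ ht), hodd _ he, ← pow_add, ← two_mul]
      exact hexp t ht
    · rw [← mul_assoc, ← pow_add, ← two_mul, hexp t ht, one_mul]

/-- The order of `e a` shares a prime with `n`. -/
theorem shares_of_cell [Finite G] {n : ℕ} (hn : n % 2 = 1) {e a : G} (he : e * e = 1)
    (hc : e * a = a * e) (ha : a ^ n = 1) : Shares n (orderOf (e * a)) ↔ a ≠ 1 := by
  constructor
  · rintro ⟨r, hr, hrn, hro⟩ rfl
    rw [mul_one] at hro
    have h2 := (Nat.prime_dvd_prime_iff_eq hr Nat.prime_two).1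
      (hro.trans (orderOf_dvd_of_pow_eq_one (by rwa [sq])))
    subst h2
    omega
  · intro h1
    have hsq : (e * a) ^ 2 = a ^ 2 := by
      rw [Commute.mul_pow hc, sq e, he, one_mul]
    have h2 : a ^ 2 ≠ 1 := fun h => h1 (by
      rw [← Nat.div_add_mod n 2, hn, pow_succ, pow_mul, h, one_pow, one_mul] at ha
      exact ha)
    obtain ⟨r, hr, hro⟩ := Nat.exists_prime_and_dvd (fun h => h2 (orderOf_eq_one_iff.1 h))
    exact ⟨r, hr, hro.trans ((orderOf_pow_dvd 2).trans (orderOf_dvd_of_pow_eq_one ha)),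
      hro.trans (hsq ▸ orderOf_pow_dvd 2)⟩

end Decomp

variable {K : Type*} [Field K] [Fintype K] {m : ℕ} (hK : Fintype.card K = 3 ^ (2 * m + 1))
include hK

theorem cent_cell_HR (hm : 1 ≤ m) {e a : RG K m} (he : e ∈ HR K m) (he2 : e * e = 1)
    (ha : a ∈ AH hK) (h1 : a ≠ 1) :
    Nat.card (Subgroup.centralizer ({e * a} : Set (RG K m))) ≤ 3 ^ (2 * m + 1) + 1 := by
  have hm' : e * a ∈ HR K m := mul_mem he (AH_le hK ha)
  obtain ⟨c, hc⟩ := (mem_HR_iff hK _).1 hm'
  have hs := (shares_of_cell (nH_spec m).2 he2 (HR_comm hK he (AH_le hK ha)) ha.2).2 h1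
  have hc2 : (c : K) ^ 2 ≠ 1 := fun h => by
    refine not_shares_two (nH_spec m).2 (orderOf_dvd_of_pow_eq_one ?_) hs
    rw [hc, ← map_pow, show c ^ 2 = 1 from Units.ext (by rw [Units.val_pow_eq_pow_val, h, Units.val_one]),
      map_one]
  rw [hc, centralizer_hEl hK hm hc2, card_HR hK]
  exact (Nat.sub_le _ _).trans (Nat.le_succ _)

theorem cent_cell_TD (hm : 1 ≤ m) {e a : RG K m} (he : e ∈ TD hK) (he2 : e * e = 1)
    (ha : a ∈ A1 hK) (h1 : a ≠ 1) :
    Nat.card (Subgroup.centralizer ({e * a} : Set (RG K m))) ≤ 3 ^ (2 * m + 1) + 1 := by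
  have hm' : e * a ∈ TD hK := mul_mem he (A1_le hK ha)
  have hs := (shares_of_cell (nQ_spec m).2 he2 (TD_comm hK he (A1_le hK ha)) ha.2).2 h1
  have hne : e * a * (e * a) ≠ 1 := fun h =>
    not_shares_two (nQ_spec m).2 (orderOf_dvd_of_pow_eq_one (by rwa [sq])) hs
  have hle : Subgroup.centralizer ({e * a} : Set (RG K m)) ≤ TD hK := by
    rw [← centralizer_quarter hK hm (sq_mem_A1 hK hm') hne]
    intro y hy
    rw [Subgroup.mem_centralizer_singleton_iff] at hy ⊢
    exact (Commute.mul_right hy hy).eq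
  exact (Nat.le_of_dvd Nat.card_pos (Subgroup.card_dvd_of_le hle)).trans (card_TD hK).le

/-- The subgroup `⟨z⟩ × A₁` of the quarter torus. -/
noncomputable def pairSub (z : RG K m) (hz : z ∈ TE hK) : Subgroup (RG K m) where
  carrier := {g | g ∈ TD hK ∧ (g ^ nQ m = 1 ∨ g ^ nQ m = z)}
  one_mem' := ⟨one_mem _, Or.inl (one_pow _)⟩
  mul_mem' := by
    rintro a b ⟨ha, ha'⟩ ⟨hb, hb'⟩
    refine ⟨mul_mem ha hb, ?_⟩
    rw [Commute.mul_pow (TD_comm hK ha hb)]
    rcases ha' with e | e <;> rcases hb' with e' | e' <;> rw [e, e']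
    · exact Or.inl (one_mul _)
    · exact Or.inr (one_mul _)
    · exact Or.inr (mul_one _)
    · exact Or.inl hz.2
  inv_mem' := by
    rintro a ⟨ha, ha'⟩
    refine ⟨inv_mem ha, ?_⟩
    rw [inv_pow]
    rcases ha' with e | e <;> rw [e]
    · exact Or.inl inv_one
    · exact Or.inr (inv_eq_of_mul_eq_one_right hz.2)

theorem pairSub_decomp {z : RG K m} (hz : z ∈ TE hK) :
    CellDecomp (pairSub hK z hz) (A1 hK) {1, z} := by
  have hodd := (nQ_spec m).2
  have hzn : z ^ nQ m = z := by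
    rw [← Nat.div_add_mod (nQ m) 2, hodd, pow_succ, pow_mul, sq, hz.2, one_pow, one_mul]
  have hexp : ∀ g ∈ pairSub hK z hz, g ^ (2 * nQ m) = 1 := fun g hg => TD_pow hK hg.1
  refine cellDecomp_of_odd (T := pairSub hK z hz) (A₀ := A1 hK) hodd
    (fun a ha b hb => TD_comm hK ha.1 hb.1) hexp
    (fun g => ⟨fun hg => ⟨⟨hg.1, Or.inl hg.2⟩, hg.2⟩, fun hg => ⟨hg.1.1, hg.2⟩⟩) fun e => ?_
  simp only [Finset.mem_insert, Finset.mem_singleton]
  constructor
  · rintro (rfl | rfl)
    · exact ⟨one_mem _, one_mul _⟩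
    · exact ⟨⟨hz.1, Or.inr hzn⟩, hz.2⟩
  · rintro ⟨⟨he, h⟩, he2⟩
    have : e ^ nQ m = e := by
      rw [← Nat.div_add_mod (nQ m) 2, hodd, pow_succ, pow_mul, sq, he2, one_pow, one_mul]
    rwa [this] at h

theorem card_pairSub {z : RG K m} (hz : z ∈ TE hK) (h1 : z ≠ 1) [Fintype (RG K m)] :
    Nat.card (pairSub hK z hz) = 2 * nQ m := by
  have h := (pairSub_decomp hK hz).sum_eq (fun _ => (1 : ℕ))
  simp only [Finset.sum_const, smul_eq_mul, mul_one, card_filter_mem, card_A1 hK] at h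
  rw [h, Finset.card_pair (Ne.symm h1)]

variable [Fintype (RG K m)] [Fintype (Cfsg.IrrCharacter (RG K m))]
variable {A : Subgroup (RG K m)} (hA : SixTorus A) (F : Fam A)

/-- The relations among the values of an exceptional character. -/
structure Table where
  (D J a b h : ℤ)
  z : Fin 3 → ℤ
  deg : (F.θ F.z : RG K m → ℂ) 1 = (D : ℂ)
  inv : (F.θ F.z : RG K m → ℂ) (jEl hK) = (J : ℂ)
  bd : |a| ≤ 3 ∧ |b| ≤ 3 ∧ |h| ≤ 3 ∧ ∀ i, |z i| ≤ 3
  par_ab : 2 ∣ a - b
  par_hz : ∀ i, 2 ∣ h - z i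
  dvd_AH : (nH m : ℤ) ∣ D + ((nH m : ℤ) - 1) * a
  dvd_HR : (2 * nH m : ℤ) ∣ D + J + ((nH m : ℤ) - 1) * (a + b)
  dvd_A1 : (nQ m : ℤ) ∣ D + ((nQ m : ℤ) - 1) * h
  dvd_pair : ∀ i, (2 * nQ m : ℤ) ∣ D + J + ((nQ m : ℤ) - 1) * (h + z i)
  dvd_TD : (4 * nQ m : ℤ) ∣ D + 3 * J + ((nQ m : ℤ) - 1) * (h + ∑ i, z i)
  budget : ((nH m : ℝ) - 1) * ((a : ℝ) ^ 2 + (b : ℝ) ^ 2) / (2 * ((3 : ℝ) ^ (2 * m + 1) - 1)) +
      ((nQ m : ℝ) - 1) * ((h : ℝ) ^ 2 + ∑ i, (z i : ℝ) ^ 2) / (6 * ((3 : ℝ) ^ (2 * m + 1) + 1)) +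
      (J : ℝ) ^ 2 / (Nat.card (Subgroup.centralizer ({jEl hK} : Set (RG K m))) : ℝ) +
      (D : ℝ) ^ 2 / (Nat.card (RG K m) : ℝ) ≤ 6 / (Nat.card A : ℝ)

include hA

set_option maxHeartbeats 800000 in
theorem exists_table (hm : 1 ≤ m)
    (hn : Nat.card A = 3 ^ (2 * m + 1) - 3 ^ (m + 1) + 1 ∨
      Nat.card A = 3 ^ (2 * m + 1) + 3 ^ (m + 1) + 1) : Nonempty (Table hK F) := by
  obtain ⟨hHs, hHo⟩ := nH_spec m
  obtain ⟨hQs, hQo⟩ := nQ_spec m
  obtain ⟨-, hii, hi1, hij⟩ := iEl_props hK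
  obtain ⟨hjT, hiT, hjiT⟩ := jEl_iEl_mem hK
  have hjH : jEl hK ∈ HR K m := hEl_mem hK _
  have hj1 := jEl_ne_one hK
  have hj2 := jEl_mul_self hK
  have hji1 : jEl hK * iEl hK ≠ 1 := fun e => hij (by
    rw [← one_mul (iEl hK), ← hj2, mul_assoc, e, mul_one])
  have hji : jEl hK * iEl hK ≠ jEl hK := fun e => hi1 (mul_eq_left.1 e)
  have hji' : jEl hK * iEl hK ≠ iEl hK := fun e => hj1 (mul_eq_right.1 e)
  -- the two decompositions
  have hdH : CellDecomp (HR K m) (AH hK) {1, jEl hK} := by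
    refine cellDecomp_of_odd hHo (fun a ha b hb => HR_comm hK ha hb) (fun t ht => ?_)
      (fun g => Iff.rfl) fun e => ?_
    · rw [hHs, ← card_HR hK]
      exact Count.pow_card_of_mem ht
    · simp only [Finset.mem_insert, Finset.mem_singleton]
      constructor
      · rintro (rfl | rfl)
        · exact ⟨one_mem _, one_mul _⟩
        · exact ⟨hjH, hj2⟩
      · rintro ⟨he, he2⟩
        by_cases h : e = 1
        · exact Or.inl h
        · exact Or.inr (eq_jEl hK he h he2)
  have hdQ : CellDecomp (TD hK) (A1 hK) {1, jEl hK, iEl hK, jEl hK * iEl hK} := by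
    refine cellDecomp_of_odd hQo (fun a ha b hb => TD_comm hK ha hb)
      (fun t ht => TD_pow hK ht) (fun g => Iff.rfl) fun e => ?_
    simp only [Finset.mem_insert, Finset.mem_singleton]
    constructor
    · rintro (rfl | rfl | rfl | rfl)
      · exact ⟨one_mem _, one_mul _⟩
      · exact hjT
      · exact hiT
      · exact hjiT
    · exact fun he => TE_cases hK he
  -- cell values
  have hbigH : ∀ p : ℕ, p.Prime → p ∣ Nat.card (AH hK) → 7 ≤ p := fun p hp hd =>
    seven_le_prime hp (Or.inl (card_AH hK ▸ hd))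
  have hbigQ : ∀ p : ℕ, p.Prime → p ∣ Nat.card (A1 hK) → 7 ≤ p := fun p hp hd =>
    seven_le_prime hp (Or.inr (card_A1 hK ▸ hd))
  have hnsH : ∀ e ∈ HR K m, e * e = 1 → ∀ a ∈ AH hK, a ≠ 1 →
      ¬ Shares (nSix m) (orderOf (e * a)) := fun e he he2 a ha h1 =>
    not_shares_six_of_dvd hK hm (Or.inr (Or.inl
      ((shares_of_cell hHo he2 (HR_comm hK he (AH_le hK ha)) ha.2).2 h1)))
  have hnsQ : ∀ e ∈ TD hK, e * e = 1 → ∀ a ∈ A1 hK, a ≠ 1 →
      ¬ Shares (nSix m) (orderOf (e * a)) := fun e he he2 a ha h1 =>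
    not_shares_six_of_dvd hK hm (Or.inr (Or.inr
      ((shares_of_cell hQo he2 (TD_comm hK he (A1_le hK ha)) ha.2).2 h1)))
  have valH : ∀ e ∈ HR K m, e * e = 1 → ∃ c : ℤ, (-3 ≤ c ∧ c ≤ 3) ∧
      ∀ a ∈ AH hK, a ≠ 1 → (F.θ F.z : RG K m → ℂ) (e * a) = (c : ℂ) := fun e he he2 =>
    exists_cell_val hK hA F hm hn (fun a ha b hb => HR_comm hK (AH_le hK ha) (AH_le hK hb)) hbigH
      he2 (fun a ha => HR_comm hK he (AH_le hK ha)) (hnsH e he he2)
      (fun a ha h1 => cent_cell_HR hK hm he he2 ha h1)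
  have valQ : ∀ e ∈ TD hK, e * e = 1 → ∃ c : ℤ, (-3 ≤ c ∧ c ≤ 3) ∧
      ∀ a ∈ A1 hK, a ≠ 1 → (F.θ F.z : RG K m → ℂ) (e * a) = (c : ℂ) := fun e he he2 =>
    exists_cell_val hK hA F hm hn (fun a ha b hb => TD_comm hK (A1_le hK ha) (A1_le hK hb)) hbigQ
      he2 (fun a ha => TD_comm hK he (A1_le hK ha)) (hnsQ e he he2)
      (fun a ha h1 => cent_cell_TD hK hm he he2 ha h1)
  choose! cH bH vH using valH
  choose! cQ bQ vQ using valQ
  -- values at 1 and at the involutions
  obtain ⟨D, hD⟩ := theta_int hK hA F (g := 1)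
    (not_shares_six_of_dvd hK hm (Or.inl (by rw [orderOf_one]; exact one_dvd _)))
  obtain ⟨J, hJ⟩ := theta_int hK hA F (g := jEl hK)
    (not_shares_six_of_dvd hK hm (Or.inl (orderOf_dvd_of_pow_eq_one (by rw [sq, hj2]))))
  have hJz : ∀ z : RG K m, z * z = 1 → z ≠ 1 → (F.θ F.z : RG K m → ℂ) z = (J : ℂ) := fun z h2 h1 => by
    rw [← hJ]; exact (CharDegree.apply_eq_of_isConj _ (isConj_jEl hK hm z h2 h1)).symm
  let zz : Fin 3 → RG K m := ![jEl hK, iEl hK, jEl hK * iEl hK]
  have hzz : ∀ i, zz i ∈ TE hK ∧ zz i ≠ 1 := by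
    intro i
    fin_cases i
    · exact ⟨hjT, hj1⟩
    · exact ⟨hiT, hi1⟩
    · exact ⟨hjiT, hji1⟩
  let v : RG K m → ℤ := fun g => if g = 1 then D else J
  have hv : ∀ g : RG K m, g * g = 1 → (F.θ F.z : RG K m → ℂ) g = (v g : ℂ) := fun g h2 => by
    by_cases h : g = 1
    · simp only [v, if_pos h]; rw [h, hD]
    · simp only [v, if_neg h]; exact hJz g h2 h
  have hpair : ∀ p : ℕ, ∀ χv χw : ℤ, p = 2 → ∀ a : RG K m, ∀ e : RG K m, Commute a e → e ^ p ^ 1 = 1 →
      (F.θ F.z : RG K m → ℂ) (a * e) = (χv : ℂ) → (F.θ F.z : RG K m → ℂ) a = (χw : ℂ) →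
      (2 : ℤ) ∣ χv - χw := by
    rintro p χv χw rfl a e hc he h1 h2
    have : Fact (Nat.Prime 2) := ⟨Nat.prime_two⟩
    exact dvd_sub_of_commute (F.θ F.z) hc he h1 h2
  obtain ⟨a₁, ha₁, ha₁1⟩ : ∃ a, a ∈ AH hK ∧ a ≠ 1 := by
    by_contra hcon
    push_neg at hcon
    have hb : AH hK = ⊥ := (Subgroup.eq_bot_iff_forall _).2 hcon
    have h' := card_AH hK
    rw [hb, Subgroup.card_bot] at h'
    have := nH_gt m hm
    omega
  obtain ⟨a₂, ha₂, ha₂1⟩ : ∃ a, a ∈ A1 hK ∧ a ≠ 1 := by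
    by_contra hcon
    push_neg at hcon
    have hb : A1 hK = ⊥ := (Subgroup.eq_bot_iff_forall _).2 hcon
    have h' := card_A1 hK
    rw [hb, Subgroup.card_bot] at h'
    have := nQ_gt m hm
    omega
  -- budget
  have hbudget := budget (F.θ F.z) (Finset.univ : Finset (Fin 5))
    ![A, HR K m, TD hK, ⊥, Subgroup.zpowers (jEl hK)]
    ![Subgroup.normalizer (A : Set (RG K m)), Subgroup.normalizer (HR K m : Set (RG K m)),
      Subgroup.normalizer (A1 hK : Set (RG K m)), ⊤, Subgroup.centralizer {jEl hK}]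
    ![Shares (Nat.card A), Shares (nH m), Shares (nQ m), (· = 1), (· = 2)]
    (by
      intro i _ g t ht hP hgt
      fin_cases i
      · exact hA.uniq g t ht (fun e => by
          obtain ⟨r, hr, -, hro⟩ := hP
          rw [e, orderOf_one] at hro
          exact hr.one_lt.ne' (Nat.dvd_one.1 hro)) hgt
      · obtain ⟨c, rfl⟩ := (mem_HR_iff hK _).1 ht
        refine (mem_normalizer_HR_iff hK hm g).2 (conj_mem_HR_cases hK (fun hc => ?_) hgt)
        refine not_shares_two hHo (orderOf_dvd_of_pow_eq_one ?_) hP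
        rw [← map_pow, show c ^ 2 = 1 from Units.ext (by rw [Units.val_pow_eq_pow_val, hc, Units.val_one]), map_one]
      · refine normalizes_TD_of_conj hK hm (sq_mem_A1 hK ht) (fun e => ?_) (sq_mem_A1 hK hgt)
          (show g * (t * t) * g⁻¹ = g * t * g⁻¹ * (g * t * g⁻¹) by group)
        exact not_shares_two hQo (orderOf_dvd_of_pow_eq_one (by rwa [sq])) hP
      · exact Subgroup.mem_top g
      · change orderOf t = 2 at hP
        have htj : t = jEl hK := (zpowers_two hK hj2 ht).resolve_left fun e => by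
          rw [e, orderOf_one] at hP; norm_num at hP
        subst htj
        rcases zpowers_two hK hj2 hgt with e | e
        · exact absurd (conj_eq_one_iff.1 e) hj1
        · exact Subgroup.mem_centralizer_singleton_iff.2 (mul_inv_eq_iff_eq_mul.1 e))
    (by
      intro i _ n hn t ht hP
      fin_cases i
      · exact (Subgroup.mem_normalizer_iff.1 hn t).1 ht
      · exact (Subgroup.mem_normalizer_iff.1 hn t).1 ht
      · exact normalizer_A1_conj hK hm hn ht
      · change orderOf t = 1 at hP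
        rw [orderOf_eq_one_iff.1 hP]
        simp
      · change orderOf t = 2 at hP
        have htj : t = jEl hK := (zpowers_two hK hj2 ht).resolve_left fun e => by
          rw [e, orderOf_one] at hP; norm_num at hP
        subst htj
        rw [show n * jEl hK * n⁻¹ = jEl hK from
          mul_inv_eq_iff_eq_mul.2 (Subgroup.mem_centralizer_singleton_iff.1 hn)]
        exact Subgroup.mem_zpowers _)
    (by
      have key : ∀ g : RG K m,
          (Shares (Nat.card A) (orderOf g) → ¬ Shares (nH m) (orderOf g) ∧ ¬ Shares (nQ m) (orderOf g) ∧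
            orderOf g ≠ 1 ∧ orderOf g ≠ 2) ∧
          (Shares (nQ m) (orderOf g) → ¬ Shares (nH m) (orderOf g) ∧ orderOf g ≠ 1 ∧ orderOf g ≠ 2) ∧
          (Shares (nH m) (orderOf g) → orderOf g ≠ 1 ∧ orderOf g ≠ 2) := fun g =>
        ⟨fun h => by
          obtain ⟨a, b, -, c, d⟩ := six_excludes hK hm (shares_six_of_shares hK hA h)
          exact ⟨c, d, a, b⟩,
        fun h => by
          obtain ⟨a, b, -, d⟩ := quarter_excludes hK hm h
          exact ⟨d, a, b⟩,
        fun h => ⟨(half_excludes hK hm h).1, (half_excludes hK hm h).2.1⟩⟩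
      intro i _ j _ hij g hi hj
      obtain ⟨k1, k2, k3⟩ := key g
      fin_cases i <;> fin_cases j
      all_goals first
        | exact hij rfl
        | exact (k1 hi).1 hj | exact (k1 hj).1 hi | exact (k1 hi).2.1 hj | exact (k1 hj).2.1 hi
        | exact (k1 hi).2.2.1 hj | exact (k1 hj).2.2.1 hi
        | exact (k1 hi).2.2.2 hj | exact (k1 hj).2.2.2 hi
        | exact (k2 hi).1 hj | exact (k2 hj).1 hi
        | exact (k2 hi).2.1 hj | exact (k2 hj).2.1 hi | exact (k2 hi).2.2 hj | exact (k2 hj).2.2 hi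
        | exact (k3 hi).1 hj | exact (k3 hj).1 hi | exact (k3 hi).2 hj | exact (k3 hj).2 hi
        | (change orderOf g = _ at hi; change orderOf g = _ at hj; omega))
  have m0 : (6 : ℝ) * ((Nat.card A : ℝ) - 6) ≤ mass A (Shares (Nat.card A)) (nsq (F.θ F.z)) := by
    obtain ⟨S, hS, hle, -⟩ := self_bound (selfCent_six hK hA) F
    rw [relIndex_six hK hA] at hle
    have e : ((mass A (Shares (Nat.card A)) (nsq (F.θ F.z)) : ℝ) : ℂ) = (S : ℂ) := by
      rw [hS, mass, Complex.ofReal_sum]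
      have hset : Finset.univ.filter (fun t : RG K m => t ∈ A ∧ Shares (Nat.card A) (orderOf t)) =
          (Finset.univ.filter (· ∈ A)).erase 1 := by
        ext t
        simp only [Finset.mem_filter, Finset.mem_univ, true_and, Finset.mem_erase]
        constructor
        · rintro ⟨ht, r, hr, -, hro⟩
          refine ⟨fun e => ?_, ht⟩
          rw [e, orderOf_one] at hro
          exact hr.one_lt.ne' (Nat.dvd_one.1 hro)
        · rintro ⟨h1, ht⟩
          refine ⟨ht, Shares.of_dvd ?_ (fun e => h1 (orderOf_eq_one_iff.1 e))⟩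
          rw [← Subgroup.orderOf_mk t ht]; exact orderOf_dvd_natCard _
      rw [hset, Finset.sum_congr rfl (g := fun t => if t = 1 then 0 else
          (F.θ F.z : RG K m → ℂ) t * conj ((F.θ F.z : RG K m → ℂ) t)) (fun t ht => by
            rw [if_neg (Finset.mem_erase.1 ht).1, nsq, Complex.ofReal_pow, Complex.mul_conj']),
        Finset.sum_erase _ (by simp)]
      refine (Finset.sum_subtype (p := (· ∈ A)) (F := inferInstance) _ (fun t => by simp) _).trans ?_
      exact Finset.sum_congr rfl fun a _ => by by_cases h : a = 1 <;> simp [h]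
    have h2 : ((S : ℤ) : ℝ) = mass A (Shares (Nat.card A)) (nsq (F.θ F.z)) := by exact_mod_cast e.symm
    rw [← h2]
    push_cast at hle
    exact_mod_cast hle
  have m1 : mass (HR K m) (Shares (nH m)) (nsq (F.θ F.z)) =
      ((nH m : ℝ) - 1) * ((cH 1 : ℝ) ^ 2 + (cH (jEl hK) : ℝ) ^ 2) := by
    rw [cell_mass (F.θ F.z) hdH _ cH ?_ ?_, card_AH hK, Finset.sum_pair hj1.symm]
    · intro e he a ha
      simp only [Finset.mem_insert, Finset.mem_singleton] at he
      rcases he with rfl | rfl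
      · exact shares_of_cell hHo (one_mul _) (by rw [one_mul, mul_one]) ha.2
      · exact shares_of_cell hHo hj2 (HR_comm hK hjH (AH_le hK ha)) ha.2
    · intro e he a ha h1
      simp only [Finset.mem_insert, Finset.mem_singleton] at he
      rcases he with rfl | rfl
      · exact vH 1 (one_mem _) (one_mul _) a ha h1
      · exact vH _ hjH hj2 a ha h1
  have hEQ : ∀ e ∈ ({1, jEl hK, iEl hK, jEl hK * iEl hK} : Finset (RG K m)), e ∈ TE hK := by
    intro e he
    simp only [Finset.mem_insert, Finset.mem_singleton] at he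
    rcases he with rfl | rfl | rfl | rfl
    exacts [one_mem _, hjT, hiT, hjiT]
  have hsum4 : ∀ {M : Type} [AddCommMonoid M] (f : RG K m → M),
      ∑ e ∈ ({1, jEl hK, iEl hK, jEl hK * iEl hK} : Finset (RG K m)), f e =
        f 1 + (f (jEl hK) + (f (iEl hK) + f (jEl hK * iEl hK))) := by
    intro M _ f
    rw [Finset.sum_insert (by simp [hj1.symm, hi1.symm, hji1.symm]),
      Finset.sum_insert (by simp [hij.symm, hji.symm]), Finset.sum_insert (by simp [hji'.symm]),
      Finset.sum_singleton]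
  have m2 : mass (TD hK) (Shares (nQ m)) (nsq (F.θ F.z)) =
      ((nQ m : ℝ) - 1) * ((cQ 1 : ℝ) ^ 2 + ∑ i, (cQ (zz i) : ℝ) ^ 2) := by
    rw [cell_mass (F.θ F.z) hdQ _ cQ ?_ ?_, card_A1 hK, hsum4, Fin.sum_univ_three]
    · simp only [zz, Matrix.cons_val_zero, Matrix.cons_val_one, Matrix.cons_val]
      ring
    · intro e he a ha
      exact shares_of_cell hQo (hEQ e he).2 (TD_comm hK (hEQ e he).1 (A1_le hK ha)) ha.2
    · intro e he a ha h1
      exact vQ e (hEQ e he).1 (hEQ e he).2 a ha h1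
  have m3 : mass (⊥ : Subgroup (RG K m)) (· = 1) (nsq (F.θ F.z)) = (D : ℝ) ^ 2 := by
    rw [mass, Finset.sum_eq_single_of_mem (1 : RG K m) (by simp) (fun t ht h1 =>
      absurd (orderOf_eq_one_iff.1 (by simp only [Finset.mem_filter] at ht; exact ht.2.2)) h1)]
    rw [nsq, hD, Complex.norm_intCast, sq_abs]
  have m4 : mass (Subgroup.zpowers (jEl hK)) (· = 2) (nsq (F.θ F.z)) = (J : ℝ) ^ 2 := by
    rw [mass, Finset.sum_eq_single_of_mem (jEl hK) (by simp [orderOf_eq_prime (p := 2) (show jEl hK ^ 2 = 1 by rw [sq, hj2]) hj1])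
      (fun t ht h1 => by
        simp only [Finset.mem_filter, Finset.mem_univ, true_and] at ht
        obtain ⟨ht', ho⟩ := ht
        rcases zpowers_two hK hj2 ht' with e | e
        · rw [e, orderOf_one] at ho; norm_num at ho
        · exact absurd e h1)]
    rw [nsq, hJ, Complex.norm_intCast, sq_abs]
  have ab : ∀ c : ℤ, (-3 ≤ c ∧ c ≤ 3) → |c| ≤ 3 := fun c h => abs_le.2 h
  refine ⟨{
    D := D, J := J, a := cH 1, b := cH (jEl hK), h := cQ 1, z := fun i => cQ (zz i)
    deg := hD, inv := hJ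
    bd := ⟨ab _ (bH 1 (one_mem _) (one_mul _)), ab _ (bH _ hjH hj2),
      ab _ (bQ 1 (one_mem _) (one_mul _)), fun i => ab _ (bQ _ (hzz i).1.1 (hzz i).1.2)⟩
    par_ab := ?_, par_hz := ?_, dvd_AH := ?_, dvd_HR := ?_, dvd_A1 := ?_, dvd_pair := ?_
    dvd_TD := ?_, budget := ?_ }⟩
  · refine (dvd_sub_comm).1 (hpair 2 _ _ rfl a₁ (jEl hK) (HR_comm hK (AH_le hK ha₁) hjH)
      (by rw [pow_one, sq, hj2]) ?_ ?_)
    · rw [HR_comm hK (AH_le hK ha₁) hjH]; exact vH _ hjH hj2 a₁ ha₁ ha₁1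
    · have h := vH 1 (one_mem _) (one_mul _) a₁ ha₁ ha₁1
      rwa [one_mul] at h
  · intro i
    refine (dvd_sub_comm).1 (hpair 2 _ _ rfl a₂ (zz i) (TD_comm hK (A1_le hK ha₂) (hzz i).1.1)
      (by rw [pow_one, sq, (hzz i).1.2]) ?_ ?_)
    · rw [TD_comm hK (A1_le hK ha₂) (hzz i).1.1]; exact vQ _ (hzz i).1.1 (hzz i).1.2 a₂ ha₂ ha₂1
    · have h := vQ 1 (one_mem _) (one_mul _) a₂ ha₂ ha₂1
      rwa [one_mul] at h
  · have hd1 : CellDecomp (AH hK) (AH hK) {1} :=
      ⟨fun e he a ha => by rw [Finset.mem_singleton.1 he, one_mul]; exact ha,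
        fun e he e' he' a _ a' _ h => by
          rw [Finset.mem_singleton.1 he, Finset.mem_singleton.1 he', one_mul, one_mul] at h
          exact ⟨(Finset.mem_singleton.1 he).trans (Finset.mem_singleton.1 he').symm, h⟩,
        fun t ht => ⟨1, Finset.mem_singleton_self _, t, ht, (one_mul t).symm⟩⟩
    have h := cell_dvd (F.θ F.z) hd1 (fun _ => D) (fun _ => cH 1)
      (fun e he => by rw [Finset.mem_singleton.1 he, hD])
      (fun e he a ha h1 => by rw [Finset.mem_singleton.1 he]; exact vH 1 (one_mem _) (one_mul _) a ha h1)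
    rwa [Finset.sum_singleton, card_AH hK] at h
  · have h := cell_dvd (F.θ F.z) hdH v cH (fun e he => hv e (by
        simp only [Finset.mem_insert, Finset.mem_singleton] at he
        rcases he with rfl | rfl
        exacts [one_mul _, hj2]))
      (fun e he a ha h1 => by
        simp only [Finset.mem_insert, Finset.mem_singleton] at he
        rcases he with rfl | rfl
        exacts [vH 1 (one_mem _) (one_mul _) a ha h1, vH _ hjH hj2 a ha h1])
    rw [Finset.sum_pair hj1.symm, card_HR hK, card_AH hK, ← hHs] at h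
    simp only [v, if_pos, if_neg hj1] at h
    push_cast at h
    convert h using 1; ring
  · have hd1 : CellDecomp (A1 hK) (A1 hK) {1} :=
      ⟨fun e he a ha => by rw [Finset.mem_singleton.1 he, one_mul]; exact ha,
        fun e he e' he' a _ a' _ h => by
          rw [Finset.mem_singleton.1 he, Finset.mem_singleton.1 he', one_mul, one_mul] at h
          exact ⟨(Finset.mem_singleton.1 he).trans (Finset.mem_singleton.1 he').symm, h⟩,
        fun t ht => ⟨1, Finset.mem_singleton_self _, t, ht, (one_mul t).symm⟩⟩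
    have h := cell_dvd (F.θ F.z) hd1 (fun _ => D) (fun _ => cQ 1)
      (fun e he => by rw [Finset.mem_singleton.1 he, hD])
      (fun e he a ha h1 => by rw [Finset.mem_singleton.1 he]; exact vQ 1 (one_mem _) (one_mul _) a ha h1)
    rwa [Finset.sum_singleton, card_A1 hK] at h
  · intro i
    obtain ⟨hzT, hz1⟩ := hzz i
    have h := cell_dvd (F.θ F.z) (pairSub_decomp hK hzT) v cQ (fun e he => hv e (by
        simp only [Finset.mem_insert, Finset.mem_singleton] at he
        rcases he with rfl | rfl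
        exacts [one_mul _, hzT.2]))
      (fun e he a ha h1 => by
        simp only [Finset.mem_insert, Finset.mem_singleton] at he
        rcases he with rfl | rfl
        exacts [vQ 1 (one_mem _) (one_mul _) a ha h1, vQ _ hzT.1 hzT.2 a ha h1])
    rw [Finset.sum_pair hz1.symm, card_pairSub hK hzT hz1, card_A1 hK] at h
    simp only [v, if_pos, if_neg hz1] at h
    push_cast at h
    convert h using 1; ring
  · have h := cell_dvd (F.θ F.z) hdQ v cQ (fun e he => hv e (hEQ e he).2)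
      (fun e he a ha h1 => vQ e (hEQ e he).1 (hEQ e he).2 a ha h1)
    rw [hsum4, card_TD hK, card_A1 hK, ← hQs] at h
    simp only [v, if_pos, if_neg hj1, if_neg hi1, if_neg hji1] at h
    push_cast at h
    convert h using 1
    simp only [Fin.sum_univ_three, zz, Matrix.cons_val_zero, Matrix.cons_val_one, Matrix.cons_val]
    ring
  · rw [Fin.sum_univ_five] at hbudget
    simp only [Matrix.cons_val_zero, Matrix.cons_val_one, Matrix.cons_val] at hbudget
    rw [m1, m2, m3, m4, hA.card_norm, card_normalizer_HR hK hm, card_normalizer_A1 hK hm,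
      Subgroup.card_top] at hbudget
    have hq : 1 ≤ 3 ^ (2 * m + 1) := Nat.one_le_pow _ _ three_pos
    push_cast [Nat.cast_sub hq] at hbudget
    have hApos : (0 : ℝ) < (Nat.card A : ℝ) := by exact_mod_cast Nat.card_pos
    have h0 : 1 - 6 / (Nat.card A : ℝ) ≤
        mass A (Shares (Nat.card A)) (nsq (F.θ F.z)) / (6 * (Nat.card A : ℝ)) := by
      rw [le_div_iff₀ (by positivity), sub_mul, one_mul, div_mul_eq_mul_div, mul_comm (6 : ℝ) (6 * _),
        mul_div_assoc]
      field_simp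
      linarith
    linarith

end CfsgLib.Known.ReeSquare
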