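import Cfsg.Agent.Lib.Known.ReeSquare.Central

/-!
# The tori are inverted by involutions
-/

set_option autoImplicit false

namespace CfsgLib.Known.ReeSquare

open Cfsg.Lie CfsgLib.Lie CfsgLib.Lie.Chev CfsgLib.Lie.Chev.TwGroups CfsgLib.Lie.Ree
open scoped MatrixGroups

theorem invertedBy_of {G : Type*} [Group G] {x t : G} (ht : t * t = 1) (hx : x * x ≠ 1)
    (hinv : ∀ a ∈ Subgroup.centralizer ({x} : Set G), t * a * t⁻¹ = a⁻¹) : InvertedBy x t := by
  intro a ha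
  have hti : t⁻¹ = t := inv_eq_of_mul_eq_one_right ht
  have h := hinv a ha
  rw [hti] at h
  refine ⟨?_, fun e => hx ?_⟩
  · calc t * a * (t * a) = t * a * t * a := by simp only [mul_assoc]
      _ = 1 := by rw [h, inv_mul_cancel]
  · have hxa : t = a⁻¹ := eq_inv_of_mul_eq_one_left e
    have h2 := hinv x (Subgroup.mem_centralizer_singleton_iff.2 rfl)
    have hc : a⁻¹ * x = x * a⁻¹ := (Subgroup.mem_centralizer_singleton_iff.1 (inv_mem ha))
    rw [hxa, inv_inv, hc, inv_mul_cancel_right] at h2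
    nth_rewrite 1 [h2]
    exact inv_mul_cancel x

variable {K : Type*} [Field K] [Fintype K] {m : ℕ} (hK : Fintype.card K = 3 ^ (2 * m + 1))
include hK

theorem sq_eq_one_of_pow_four {g : RG K m} (h : g ^ 4 = 1) : g * g = 1 := by
  have : Fact (Nat.Prime 2) := ⟨Nat.prime_two⟩
  have hd := orderOf_dvd_of_pow_eq_one h
  obtain ⟨k, -, hk⟩ := (Nat.dvd_prime_pow Nat.prime_two (m := 2)).1 hd
  have hp : IsPGroup 2 ↥(Subgroup.zpowers g) := IsPGroup.of_card (n := k) (by rw [Nat.card_zpowers, hk])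
  obtain ⟨S, hS⟩ := hp.exists_le_sylow
  exact (sylow_two_elem hK S).2 g (hS (Subgroup.mem_zpowers g))

theorem invertedBy_HR (hm : 1 ≤ m) {c : Kˣ} (hc : (c : K) ^ 2 ≠ 1) :
    ∃ t, InvertedBy (hEl hK c) t := by
  obtain ⟨n, hn⟩ : ∃ n, n = nEl hK := ⟨_, rfl⟩
  have hinv : ∀ b : Kˣ, n * hEl hK b * n⁻¹ = hEl hK b⁻¹ := hn ▸ exists_inverter hK hm
  have hn2 : n * n ∈ HR K m := by
    rw [← centralizer_hEl hK hm hc, Subgroup.mem_centralizer_singleton_iff]
    have e : n * n * hEl hK c * (n * n)⁻¹ = hEl hK c := by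
      calc _ = n * (n * hEl hK c * n⁻¹) * n⁻¹ := by group
        _ = hEl hK c := by rw [hinv, hinv, inv_inv]
    exact mul_inv_eq_iff_eq_mul.1 e
  obtain ⟨b, hb⟩ := (mem_HR_iff hK _).1 hn2
  have h4 : n ^ 4 = 1 := by
    have e : n * (n * n) * n⁻¹ = n * n := by group
    rw [hb, hinv] at e
    rw [show n ^ 4 = (n * n) * (n * n) by simp only [pow_succ, pow_zero, one_mul, mul_assoc], hb]
    nth_rewrite 1 [← e]
    rw [← map_mul, inv_mul_cancel, map_one]
  refine ⟨n, invertedBy_of (sq_eq_one_of_pow_four hK h4) ?_ fun a ha => ?_⟩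
  · intro e
    rw [← map_mul, ← map_one (hEl hK), ← sq] at e
    exact hc (by rw [← Units.val_pow_eq_pow_val, hEl_injective hK e, Units.val_one])
  · rw [centralizer_hEl hK hm hc] at ha
    obtain ⟨d, rfl⟩ := (mem_HR_iff hK _).1 ha
    rw [hinv, map_inv]

theorem invertedBy_TD (hm : 1 ≤ m) {x : RG K m} (hx : x ∈ TD hK) (hx2 : x * x ≠ 1) :
    ∃ t, InvertedBy x t := by
  obtain ⟨s, hs⟩ := exists_slS hK
  have hsq : phi hK s * phi hK s = 1 := by
    rw [← map_mul, phi_neg hK (1 : SL(2, K)) (-1) (by ring) (h' := s * s)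
      (by rw [slS_sq hs, Matrix.SpecialLinearGroup.coe_one, Matrix.scalar_apply,
        ← Matrix.smul_one_eq_diagonal]), map_one]
  refine ⟨phi hK s, invertedBy_of hsq hx2 fun a ha => ?_⟩
  have haT : a ∈ TD hK := by
    rw [← centralizer_quarter hK hm (sq_mem_A1 hK hx) hx2]
    rw [Subgroup.mem_centralizer_singleton_iff] at ha ⊢
    exact (Commute.mul_right ha ha).eq
  obtain ⟨t, ht, rfl | rfl⟩ := (mem_TD_iff hK _).1 haT
  · rw [← map_inv, ← map_mul, ← map_inv, ← map_mul, slS_invert hs ht, mul_inv_cancel_right]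
  · have hj : (jEl hK)⁻¹ = jEl hK := inv_eq_of_mul_eq_one_right (jEl_mul_self hK)
    calc phi hK s * (jEl hK * phi hK t) * (phi hK s)⁻¹
        = jEl hK * (phi hK s * phi hK t * (phi hK s)⁻¹) := by
          rw [← mul_assoc, ← phi_commute_jEl hK s]; simp only [mul_assoc]
      _ = jEl hK * phi hK t⁻¹ := by
          rw [← map_inv, ← map_mul, ← map_mul, slS_invert hs ht, mul_inv_cancel_right]
      _ = (jEl hK * phi hK t)⁻¹ := by rw [mul_inv_rev, hj, map_inv, ← map_inv, phi_commute_jEl hK]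

theorem odd_sixTorus {A : Subgroup (RG K m)} (hA : SixTorus A) : ¬ 2 ∣ Nat.card A := fun h =>
  (six_prime Nat.prime_two (h.trans hA.dvd)).1 rfl

theorem invertedBy_six {A : Subgroup (RG K m)} (hA : SixTorus A) {x : RG K m} (hx : x ∈ A)
    (h1 : x ≠ 1) : ∃ t, InvertedBy x t := by
  have : Fact (Nat.Prime 2) := ⟨Nat.prime_two⟩
  obtain ⟨⟨t, htN⟩, ht⟩ := exists_prime_orderOf_dvd_card' (G := Subgroup.normalizer (A : Set (RG K m)))
    2 (by rw [hA.card_norm]; exact Dvd.dvd.mul_right (by norm_num) _)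
  rw [Subgroup.orderOf_mk] at ht
  have ht2 : t * t = 1 := by rw [← sq, ← ht]; exact pow_orderOf_eq_one t
  have hti : t⁻¹ = t := inv_eq_of_mul_eq_one_right ht2
  have hodd := odd_sixTorus hK hA
  have hord : ∀ a ∈ A, a * a = 1 → a = 1 := fun a ha h => by
    by_contra h'
    refine hodd ?_
    rw [← orderOf_eq_prime (p := 2) (by rw [sq]; exact h) h', ← Subgroup.orderOf_mk a ha]
    exact orderOf_dvd_natCard _
  have hfpf : ∀ a ∈ A, t * a * t⁻¹ = a → a = 1 := by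
    intro a ha h
    by_contra h'
    have htA : t ∈ A := by
      rw [← hA.cent a ha h', Subgroup.mem_centralizer_singleton_iff]
      exact mul_inv_eq_iff_eq_mul.1 h
    have := hord t htA ht2
    rw [this, orderOf_one] at ht
    norm_num at ht
  have hcomm : ∀ a ∈ A, ∀ b ∈ A, a * b = b * a := fun a ha b hb => by
    have := hA.cyclic
    let := IsCyclic.commGroup (α := A)
    exact congrArg Subtype.val (mul_comm (⟨a, ha⟩ : A) ⟨b, hb⟩)
  refine ⟨t, invertedBy_of ht2 (fun e => h1 (hord x hx e)) fun a ha => ?_⟩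
  rw [hA.cent x hx h1] at ha
  have hta : t * a * t⁻¹ ∈ A := (Subgroup.mem_normalizer_iff.1 htN a).1 ha
  refine eq_inv_of_mul_eq_one_left (hfpf _ (mul_mem hta ha) ?_)
  calc t * (t * a * t⁻¹ * a) * t⁻¹ = (t * t) * a * (t⁻¹ * a * t⁻¹) := by group
    _ = a * (t * a * t⁻¹) := by rw [ht2, one_mul, hti]
    _ = t * a * t⁻¹ * a := hcomm _ ha _ hta

omit hK in
/-- Where an element of order at least three, prime to three, lives. -/
inductive Kind (hK : Fintype.card K = 3 ^ (2 * m + 1)) (x : RG K m) : Prop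
  | split (c : Kˣ) (hc : (c : K) ^ 2 ≠ 1) (h : x = hEl hK c) : Kind hK x
  | quarter (h : x ∈ TD hK) (h2 : x * x ≠ 1) : Kind hK x
  | six (A : Subgroup (RG K m)) (hA : SixTorus A) (h : x ∈ A) (h1 : x ≠ 1)
      (hn : Nat.card A = 3 ^ (2 * m + 1) - 3 ^ (m + 1) + 1 ∨
        Nat.card A = 3 ^ (2 * m + 1) + 3 ^ (m + 1) + 1) : Kind hK x

theorem exists_kind (hm : 1 ≤ m) {x : RG K m} (h3 : ¬ 3 ∣ orderOf x) (h2 : 2 < orderOf x) :
    ∃ y, IsConj y x ∧ Kind hK y := by
  have hsq : ∀ y : RG K m, orderOf y = orderOf x → y * y ≠ 1 := fun y hy e => by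
    have := Nat.le_of_dvd two_pos (orderOf_dvd_of_pow_eq_one (n := 2) (x := y) (by rwa [sq]))
    omega
  have ho : ∀ g : RG K m, orderOf (g⁻¹ * x * g) = orderOf x := fun g => by
    simpa using (MulEquiv.orderOf_eq (MulAut.conj g⁻¹) x)
  have hc : ∀ g : RG K m, IsConj (g⁻¹ * x * g) x := fun g => isConj_iff.2 ⟨g, by group⟩
  rcases order_cases hK hm x with h | h | h | ⟨r, hr, hrn, hro⟩ | ⟨r, hr, hrn, hro⟩ | ⟨r, hr, hrn, hro⟩
  · omega
  · omega
  · exact absurd h h3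
  · obtain ⟨g, hg⟩ := exists_conj_HR hK hm hr hrn hro
    obtain ⟨c, hc'⟩ := (mem_HR_iff hK _).1 hg
    refine ⟨_, hc g, .split c (fun e => hsq _ (ho g) ?_) hc'⟩
    rw [hc', ← map_mul, ← map_one (hEl hK), ← sq]
    exact congrArg _ (Units.ext (by rw [Units.val_pow_eq_pow_val, e, Units.val_one]))
  · obtain ⟨g, hg⟩ := exists_conj_TD hK hm hr hrn hro
    exact ⟨_, hc g, .quarter hg (hsq _ (ho g))⟩
  · obtain ⟨A, B, hA, hB, hca, hcb, hmul⟩ := six_tori hK hm
    rw [← hmul] at hrn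
    rcases hr.dvd_mul.1 hrn with h' | h'
    · obtain ⟨g, hg⟩ := hA.cover x ⟨r, hr, h', hro⟩
      exact ⟨_, hc g, .six A hA hg (fun e => hsq _ (ho g) (by rw [e, one_mul])) (Or.inl hca)⟩
    · obtain ⟨g, hg⟩ := hB.cover x ⟨r, hr, h', hro⟩
      exact ⟨_, hc g, .six B hB hg (fun e => hsq _ (ho g) (by rw [e, one_mul])) (Or.inr hcb)⟩

theorem exists_inverted (hm : 1 ≤ m) {x : RG K m} (h : Kind hK x) : ∃ t, InvertedBy x t := by
  rcases h with ⟨c, hc, rfl⟩ | ⟨h, h2⟩ | ⟨A, hA, h, h1, -⟩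
  · exact invertedBy_HR hK hm hc
  · exact invertedBy_TD hK hm h h2
  · exact invertedBy_six hK hA h h1

end CfsgLib.Known.ReeSquare
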