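import Cfsg.Agent.Lib.Known.ReeSquare.Table

/-!
# The exceptional characters of the large tori vanish on the involutions
-/

set_option autoImplicit false

open scoped Classical

namespace CfsgLib.Known.ReeSquare

open Cfsg.Lie CfsgLib.Lie CfsgLib.Lie.Chev CfsgLib.Lie.Chev.TwGroups CfsgLib.Lie.Ree CfsgLib.Char
  CfsgLib.CA

section Family

variable {G : Type*} [Group G] [Fintype G] [Fintype (Cfsg.IrrCharacter G)] {A : Subgroup G}

/-- The multiplicities on the family are small. -/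
theorem beta_family_le (hA : SelfCent A) (F : Fam A) :
    1 + ((F.n : ℤ) - 1) * ((beta F (F.θ F.z) + F.sgn) * (beta F (F.θ F.z) + F.sgn)) +
      beta F (F.θ F.z) * beta F (F.θ F.z) ≤
        (A.relIndex (Subgroup.normalizer (A : Set G)) : ℤ) + 1 := by
  classical
  rw [← sum_beta_sq hA F]
  refine le_trans ?_ (Finset.sum_le_sum_of_subset_of_nonneg
    (Finset.subset_univ (insert (trivChar G) (Finset.univ.image F.θ))) fun _ _ _ => mul_self_nonneg _)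
  rw [Finset.sum_insert (by simpa using theta_ne_triv hA F), beta_triv,
    Finset.sum_image fun a _ b _ h => F.θ_inj h,
    ← Finset.add_sum_erase _ _ (Finset.mem_univ F.z),
    Finset.sum_congr rfl (g := fun _ => (beta F (F.θ F.z) + F.sgn) * (beta F (F.θ F.z) + F.sgn))
      (fun j hj => by rw [beta_theta hA F (Finset.mem_erase.1 hj).1]),
    Finset.sum_const, Finset.card_erase_of_mem (Finset.mem_univ _), Finset.card_univ,
    Fintype.card_fin, nsmul_eq_mul]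
  have : 1 ≤ F.n := one_le_two.trans F.two_le
  push_cast [Nat.cast_sub this]
  linarith

end Family

theorem int_bound {x : ℤ} (k : ℕ) (h : x ^ 2 < ((k : ℤ) + 1) ^ 2) : -(k : ℤ) ≤ x ∧ x ≤ k := by
  have := abs_lt_of_sq_lt_sq' h (by positivity)
  omega

theorem pair_eq {D J h x y : ℤ} (h1 : (14 : ℤ) ∣ D + J + 6 * (h + x))
    (h2 : (14 : ℤ) ∣ D + J + 6 * (h + y)) (p1 : 2 ∣ h - x) (p2 : 2 ∣ h - y) (bx : -3 ≤ x ∧ x ≤ 3)
    (bY : -3 ≤ y ∧ y ≤ 3) : x = y := by omega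

theorem zero_case_27 {D J h z : ℤ} (d1 : (13 : ℤ) ∣ D) (d2 : (26 : ℤ) ∣ D + J)
    (d3 : (7 : ℤ) ∣ D + 6 * h) (d4 : (14 : ℤ) ∣ D + J + 6 * (h + z)) (hz : z = 0)
    (hJ : -80 ≤ J ∧ J ≤ 80) : J = 0 := by omega

theorem inv_case_27 {D J h z : ℤ} (d1 : (13 : ℤ) ∣ D) (d2 : (26 : ℤ) ∣ D + J)
    (d3 : (7 : ℤ) ∣ D + 6 * h) (d4 : (14 : ℤ) ∣ D + J + 6 * (h + z))
    (d5 : (28 : ℤ) ∣ D + 3 * J + 6 * (h + (z + z + z))) (hh : h = 1 ∨ h = -1) (hz : z = 1 ∨ z = -1)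
    (hJ : -59 ≤ J ∧ J ≤ 59) :
    (J = 13 ∧ z = -1 ∨ J = -13 ∧ z = 1) ∧ ¬ (2 : ℤ) ∣ D ∧ ¬ (7 : ℤ) ∣ D ∧
      (28 : ℤ) ∣ D - 21 * z + 6 * h := by
  rcases hh with rfl | rfl <;> rcases hz with rfl | rfl <;> refine ⟨?_, ?_, ?_, ?_⟩ <;> omega

/-- The arithmetic that excludes a non-zero value for `q = 27`. -/
theorem no_degree_27 {e N : ℕ} {h z d s : ℤ} (he : e ∣ 3 ^ 9 * (19 * 37)) (hlo : 703 ≤ 13 * (e : ℤ))
    (hh : h = 1 ∨ h = -1) (hz : z = 1 ∨ z = -1) (hs : s = 1 ∨ s = -1) (hd : -1 ≤ d ∧ d ≤ 1)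
    (hN : N = 19 ∧ 13 * (e : ℤ) ≤ 40686 ∨ N = 37 ∧ 13 * (e : ℤ) ≤ 10385 ∧ (d = 0 ∨ d = s))
    (h7 : (7 : ℤ) ∣ 13 * (e : ℤ) + 6 * h) (h28 : (28 : ℤ) ∣ 13 * (e : ℤ) - 21 * z + 6 * h)
    (hcong : (N : ℤ) ∣ 13 * (e : ℤ) - d - 6 * s) : False := by
  obtain ⟨d₁, d₂, h1, h2, rfl⟩ := Nat.dvd_mul.1 he
  obtain ⟨d₃, d₄, h3, h4, rfl⟩ := Nat.dvd_mul.1 h2
  obtain ⟨i, hi, rfl⟩ := (Nat.dvd_prime_pow Nat.prime_three).1 h1
  rcases hN with ⟨rfl, hN⟩ | ⟨rfl, hN, hN'⟩ <;>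
    rcases (Nat.dvd_prime (by norm_num)).1 h3 with rfl | rfl <;>
    rcases (Nat.dvd_prime (by norm_num)).1 h4 with rfl | rfl <;>
    interval_cases i <;> norm_num only [Nat.cast_ofNat, Nat.cast_mul, Nat.cast_pow] at * <;> omega

variable {K : Type*} [Field K] [Fintype K] {m : ℕ} (hK : Fintype.card K = 3 ^ (2 * m + 1))
include hK
variable [Fintype (RG K m)] [Fintype (Cfsg.IrrCharacter (RG K m))]
variable {A : Subgroup (RG K m)} (hA : SixTorus A) {F : Fam A} (T : Table hK F)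
include hA T

theorem J_bound (hm : 1 ≤ m) : (F.n : ℝ) * (T.J : ℝ) ^ 2 ≤
    (3 : ℝ) ^ (2 * m + 1) * ((3 : ℝ) ^ (2 * m + 1) - 1) * ((3 : ℝ) ^ (2 * m + 1) + 1) - 1 := by
  have hq : 1 ≤ 3 ^ (2 * m + 1) := Nat.one_le_pow _ _ three_pos
  have h := card_family_mul_sq_le (selfCent_six hK hA) F (avoids_six hK hA (g := jEl hK)
    (not_shares_six_of_dvd hK hm (Or.inl (orderOf_dvd_of_pow_eq_one (by rw [sq, jEl_mul_self hK])))))
  rw [T.inv, Complex.norm_intCast, sq_abs, card_centralizer_jEl hK] at h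
  push_cast [Nat.cast_sub hq] at h
  exact h

omit [Fintype (Cfsg.IrrCharacter (RG K m))] hA in
/-- Both cell budgets. -/
theorem budget_split :
    ((nH m : ℝ) - 1) * ((T.a : ℝ) ^ 2 + (T.b : ℝ) ^ 2) / (2 * ((3 : ℝ) ^ (2 * m + 1) - 1)) ≤
      6 / (Nat.card A : ℝ) ∧
    ((nQ m : ℝ) - 1) * ((T.h : ℝ) ^ 2 + ∑ i, (T.z i : ℝ) ^ 2) / (6 * ((3 : ℝ) ^ (2 * m + 1) + 1)) ≤
      6 / (Nat.card A : ℝ) := by
  have hq : (1 : ℝ) ≤ (3 : ℝ) ^ (2 * m + 1) := one_le_pow₀ (by norm_num)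
  have h1 : (1 : ℝ) ≤ (nH m : ℝ) := by
    have h := nH_spec m
    exact_mod_cast (show 1 ≤ nH m by omega)
  have h2 : (1 : ℝ) ≤ (nQ m : ℝ) := by
    have h := nQ_spec m
    exact_mod_cast (show 1 ≤ nQ m by omega)
  have t1 : (0 : ℝ) ≤ ((nH m : ℝ) - 1) * ((T.a : ℝ) ^ 2 + (T.b : ℝ) ^ 2) /
      (2 * ((3 : ℝ) ^ (2 * m + 1) - 1)) :=
    div_nonneg (mul_nonneg (by linarith) (by positivity)) (by linarith)
  have t2 : (0 : ℝ) ≤ ((nQ m : ℝ) - 1) * ((T.h : ℝ) ^ 2 + ∑ i, (T.z i : ℝ) ^ 2) /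
      (6 * ((3 : ℝ) ^ (2 * m + 1) + 1)) :=
    div_nonneg (mul_nonneg (by linarith) (by positivity)) (by linarith)
  have t3 : (0 : ℝ) ≤ (T.J : ℝ) ^ 2 /
      (Nat.card (Subgroup.centralizer ({jEl hK} : Set (RG K m))) : ℝ) := by positivity
  have t4 : (0 : ℝ) ≤ (T.D : ℝ) ^ 2 / (Nat.card (RG K m) : ℝ) := by positivity
  have := T.budget
  constructor <;> linarith

theorem J_eq_zero_of_zero (hm : 1 ≤ m)
    (hn : Nat.card A = 3 ^ (2 * m + 1) - 3 ^ (m + 1) + 1 ∨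
      Nat.card A = 3 ^ (2 * m + 1) + 3 ^ (m + 1) + 1)
    (ha : T.a = 0) (hb : T.b = 0) (hh : T.h = 0) (hz : T.z 0 = 0) : T.J = 0 := by
  obtain ⟨hHs, hHo⟩ := nH_spec m
  obtain ⟨hQs, hQo⟩ := nQ_spec m
  have hq : 1 ≤ 3 ^ (2 * m + 1) := Nat.one_le_pow _ _ three_pos
  have e1 := T.dvd_AH
  have e2 := T.dvd_HR
  have e3 := T.dvd_A1
  have e4 := T.dvd_pair 0
  rw [ha, hb, add_zero, mul_zero, add_zero] at e2
  rw [ha, mul_zero, add_zero] at e1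
  rw [hh, mul_zero, add_zero] at e3
  rw [hh, hz, add_zero, mul_zero, add_zero] at e4
  have dH : (nH m : ℤ) ∣ T.J := (dvd_add_right e1).1 ((dvd_mul_left _ 2).trans e2)
  have dQ : (nQ m : ℤ) ∣ T.J := (dvd_add_right e3).1 ((dvd_mul_left _ 2).trans e4)
  have hco : (nH m).Coprime (nQ m) := Nat.coprime_of_dvd fun r hr h1 h2 => by
    have h2' : r ∣ 2 := by
      have a1 : r ∣ 3 ^ (2 * m + 1) - 1 := hHs ▸ h1.mul_left 2
      have a2 : r ∣ 3 ^ (2 * m + 1) + 1 := hQs ▸ h2.mul_left 4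
      have := Nat.dvd_sub a2 a1
      rwa [show 3 ^ (2 * m + 1) + 1 - (3 ^ (2 * m + 1) - 1) = 2 by omega] at this
    rw [(Nat.prime_dvd_prime_iff_eq hr Nat.prime_two).1 h2'] at h1
    omega
  by_contra hJ
  have hd : ((nH m * nQ m : ℕ) : ℤ) ∣ T.J := by
    push_cast
    exact (Nat.Coprime.isCoprime hco).mul_dvd dH dQ
  have hle : (nH m * nQ m : ℕ) ≤ T.J.natAbs :=
    Nat.le_of_dvd (Int.natAbs_pos.2 hJ) (Int.ofNat_dvd_left.1 hd)
  have hB := J_bound hK hA T hm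
  have hsq : ((nH m * nQ m : ℕ) : ℝ) ^ 2 ≤ (T.J : ℝ) ^ 2 := by
    rw [← sq_abs (T.J : ℝ), ← Int.cast_abs, ← Nat.cast_natAbs (α := ℝ)]
    exact pow_le_pow_left₀ (Nat.cast_nonneg _) (by exact_mod_cast hle) 2
  obtain ⟨r, hr, hq', hr1⟩ := q_facts hK hm
  have hA' := card_six_ge hK hA hn
  have h6 : ((6 * F.n + 1 : ℕ) : ℝ) = (Nat.card A : ℝ) := by rw [card_six_mul hK hA F]
  push_cast at h6
  have hH' : 2 * (nH m : ℝ) = (3 : ℝ) ^ (2 * m + 1) - 1 := by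
    have : ((2 * nH m : ℕ) : ℝ) = ((3 ^ (2 * m + 1) - 1 : ℕ) : ℝ) := by rw [hHs]
    push_cast [Nat.cast_sub hq] at this
    exact this
  have hQ' : 4 * (nQ m : ℝ) = (3 : ℝ) ^ (2 * m + 1) + 1 := by
    have : ((4 * nQ m : ℕ) : ℝ) = ((3 ^ (2 * m + 1) + 1 : ℕ) : ℝ) := by rw [hQs]
    push_cast at this
    exact this
  push_cast at hsq
  rw [hr1] at hA'
  rw [hq'] at hA' hB hH' hQ'
  set q : ℝ := 3 * r ^ 2 with hqdef
  have hq27 : 27 ≤ q := by nlinarith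
  have hprod : 64 * ((nH m : ℝ) * nQ m) ^ 2 = (q ^ 2 - 1) ^ 2 := by
    rw [show (q ^ 2 - 1) ^ 2 = ((q - 1) * (q + 1)) ^ 2 by ring, ← hH', ← hQ']; ring
  have hpos : 0 < q ^ 2 - 1 := by nlinarith
  have hn6 : 2 / 3 * q ≤ 6 * (F.n : ℝ) := by nlinarith
  have k1 : 2 / 3 * q * (q ^ 2 - 1) ^ 2 ≤ 6 * 64 * ((F.n : ℝ) * (T.J : ℝ) ^ 2) := by
    calc 2 / 3 * q * (q ^ 2 - 1) ^ 2 ≤ 6 * (F.n : ℝ) * (q ^ 2 - 1) ^ 2 :=
          mul_le_mul_of_nonneg_right hn6 (sq_nonneg _)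
      _ = 6 * 64 * ((F.n : ℝ) * ((nH m : ℝ) * nQ m) ^ 2) := by rw [← hprod]; ring
      _ ≤ 6 * 64 * ((F.n : ℝ) * (T.J : ℝ) ^ 2) := by gcongr
  nlinarith [mul_pos (mul_pos (show (0:ℝ) < q by linarith) hpos)
    (show (0:ℝ) < q ^ 2 - 1 - 576 by nlinarith)]

theorem zeros_of_large (hm : 2 ≤ m)
    (hn : Nat.card A = 3 ^ (2 * m + 1) - 3 ^ (m + 1) + 1 ∨
      Nat.card A = 3 ^ (2 * m + 1) + 3 ^ (m + 1) + 1) :
    T.a = 0 ∧ T.b = 0 ∧ T.h = 0 ∧ T.z 0 = 0 := by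
  obtain ⟨hHs, -⟩ := nH_spec m
  obtain ⟨hQs, -⟩ := nQ_spec m
  have hq : 1 ≤ 3 ^ (2 * m + 1) := Nat.one_le_pow _ _ three_pos
  obtain ⟨h1, h2⟩ := budget_split hK T
  obtain ⟨r, -, hq', hr1⟩ := q_facts hK (by omega : 1 ≤ m)
  have hA' := card_six_ge hK hA hn
  have hH' : 2 * (nH m : ℝ) = (3 : ℝ) ^ (2 * m + 1) - 1 := by
    have : ((2 * nH m : ℕ) : ℝ) = ((3 ^ (2 * m + 1) - 1 : ℕ) : ℝ) := by rw [hHs]
    push_cast [Nat.cast_sub hq] at this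
    exact this
  have hQ' : 4 * (nQ m : ℝ) = (3 : ℝ) ^ (2 * m + 1) + 1 := by
    have : ((4 * nQ m : ℕ) : ℝ) = ((3 ^ (2 * m + 1) + 1 : ℕ) : ℝ) := by rw [hQs]
    push_cast at this
    exact this
  have hr9 : 9 ≤ r := by
    have h9 : (3 : ℝ) ^ 3 ≤ 3 ^ (m + 1) := pow_le_pow_right₀ (by norm_num) (by omega)
    rw [hr1] at h9; norm_num at h9; linarith
  rw [hr1] at hA'
  rw [hq'] at h1 h2 hA' hH' hQ'
  set q : ℝ := 3 * r ^ 2 with hqdef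
  have hq243 : 243 ≤ q := by nlinarith
  have hN : 217 ≤ (Nat.card A : ℝ) := by nlinarith
  have hS : 6 / (Nat.card A : ℝ) ≤ 6 / 217 :=
    div_le_div_of_nonneg_left (by norm_num) (by norm_num) hN
  replace h1 := h1.trans hS
  replace h2 := h2.trans hS
  rw [div_le_div_iff₀ (by linarith) (by norm_num)] at h1 h2
  have hab : (T.a : ℝ) ^ 2 + (T.b : ℝ) ^ 2 < 1 := by
    by_contra hc
    rw [not_lt] at hc
    nlinarith [mul_le_mul_of_nonneg_left hc (show (0 : ℝ) ≤ (nH m : ℝ) - 1 by linarith)]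
  have hhz : (T.h : ℝ) ^ 2 + ∑ i, (T.z i : ℝ) ^ 2 < 1 := by
    by_contra hc
    rw [not_lt] at hc
    nlinarith [mul_le_mul_of_nonneg_left hc (show (0 : ℝ) ≤ (nQ m : ℝ) - 1 by linarith)]
  rw [Fin.sum_univ_three] at hhz
  have hz : ∀ x : ℤ, (x : ℝ) ^ 2 < 1 → x = 0 := fun x hx => by
    have hx' : x ^ 2 < 1 := by exact_mod_cast hx
    exact sq_eq_zero_iff.1 (le_antisymm (by omega) (sq_nonneg x))
  refine ⟨hz _ ?_, hz _ ?_, hz _ ?_, hz _ ?_⟩ <;>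
    linarith [sq_nonneg (T.a : ℝ), sq_nonneg (T.b : ℝ), sq_nonneg (T.h : ℝ),
      sq_nonneg (T.z 0 : ℝ), sq_nonneg (T.z 1 : ℝ), sq_nonneg (T.z 2 : ℝ)]

set_option maxHeartbeats 400000 in
/-- The case `q = 27`. -/
theorem J_eq_zero_27 (hm : m = 1)
    (hn : Nat.card A = 3 ^ (2 * m + 1) - 3 ^ (m + 1) + 1 ∨
      Nat.card A = 3 ^ (2 * m + 1) + 3 ^ (m + 1) + 1) : T.J = 0 := by
  subst hm
  have hm1 : 1 ≤ 1 := le_rfl
  have hH : nH 1 = 13 := by norm_num [nH]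
  have hQ : nQ 1 = 7 := by norm_num [nQ]
  have hN : Nat.card A = 19 ∧ F.n = 3 ∨ Nat.card A = 37 ∧ F.n = 6 := by
    have := card_six_mul hK hA F
    norm_num [-Nat.card_eq_fintype_card] at hn
    omega
  have hbud := T.budget
  rw [hH, hQ, card_centralizer_jEl hK, card_RG hK] at hbud
  norm_num [Fin.sum_univ_three, -Nat.card_eq_fintype_card] at hbud
  obtain ⟨bda, bdb, bdh, bdz⟩ := T.bd
  rw [abs_le] at bda bdb bdh
  have bz : ∀ i, -3 ≤ T.z i ∧ T.z i ≤ 3 := fun i => abs_le.1 (bdz i)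
  have hNpos : (19 : ℝ) ≤ (Nat.card A : ℝ) := by
    rcases hN with ⟨e, -⟩ | ⟨e, -⟩ <;> rw [e] <;> norm_num
  have hS : 6 / (Nat.card A : ℝ) ≤ 6 / 19 :=
    div_le_div_of_nonneg_left (by norm_num) (by norm_num) hNpos
  have pD : (0 : ℝ) ≤ (T.D : ℝ) ^ 2 / 10073444472 := by positivity
  have pJ : (0 : ℝ) ≤ (T.J : ℝ) ^ 2 / 19656 := by positivity
  have sa := sq_nonneg (T.a : ℝ)
  have sb := sq_nonneg (T.b : ℝ)
  have sh := sq_nonneg (T.h : ℝ)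
  have s0 := sq_nonneg (T.z 0 : ℝ)
  have s1 := sq_nonneg (T.z 1 : ℝ)
  have s2 := sq_nonneg (T.z 2 : ℝ)
  have hab : T.a ^ 2 + T.b ^ 2 < 2 := by
    exact_mod_cast (show (T.a : ℝ) ^ 2 + (T.b : ℝ) ^ 2 < 2 by linarith)
  have hhz : T.h ^ 2 + (T.z 0 ^ 2 + T.z 1 ^ 2 + T.z 2 ^ 2) < 9 := by
    exact_mod_cast (show (T.h : ℝ) ^ 2 + ((T.z 0 : ℝ) ^ 2 + (T.z 1 : ℝ) ^ 2 + (T.z 2 : ℝ) ^ 2) < 9 by
      linarith)
  obtain ⟨ha, hb⟩ : T.a = 0 ∧ T.b = 0 := by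
    have hp := T.par_ab
    have ha1 := int_bound 1 (x := T.a) (by have := sq_nonneg T.b; norm_num; linarith)
    have hb1 := int_bound 1 (x := T.b) (by have := sq_nonneg T.a; norm_num; linarith)
    rcases (show T.a = -1 ∨ T.a = 0 ∨ T.a = 1 by omega) with ea | ea | ea <;>
      rcases (show T.b = -1 ∨ T.b = 0 ∨ T.b = 1 by omega) with eb | eb | eb <;>
      rw [ea, eb] at hab hp ⊢ <;> revert hab hp <;> norm_num
  have dAH := T.dvd_AH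
  have dHR := T.dvd_HR
  have dA1 := T.dvd_A1
  have dTD := T.dvd_TD
  rw [Fin.sum_univ_three] at dTD
  have dp0 := T.dvd_pair 0
  have dp1 := T.dvd_pair 1
  have dp2 := T.dvd_pair 2
  have p0 := T.par_hz 0
  have p1 := T.par_hz 1
  have p2 := T.par_hz 2
  rw [hH] at dAH dHR
  rw [hQ] at dA1 dTD dp0 dp1 dp2
  rw [ha, hb] at dHR
  rw [ha] at dAH
  norm_num at dAH dHR dA1 dTD dp0 dp1 dp2
  have hz1 : T.z 1 = T.z 0 := pair_eq dp1 dp0 p1 p0 (bz 1) (bz 0)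
  have hz2 : T.z 2 = T.z 0 := pair_eq dp2 dp0 p2 p0 (bz 2) (bz 0)
  rw [hz1, hz2] at hhz
  have hzb : -1 ≤ T.z 0 ∧ T.z 0 ≤ 1 := int_bound 1 (by have := sq_nonneg T.h; norm_num; linarith)
  have hJb : (F.n : ℝ) * (T.J : ℝ) ^ 2 ≤ 19655 := by
    refine (J_bound hK hA T hm1).trans ?_
    norm_num
  have hJ80 : -80 ≤ T.J ∧ T.J ≤ 80 := by
    have hn3 : (3 : ℝ) ≤ (F.n : ℝ) := by rcases hN with ⟨-, e⟩ | ⟨-, e⟩ <;> rw [e] <;> norm_num
    have h3 : 3 * (T.J : ℝ) ^ 2 ≤ 19655 :=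
      (mul_le_mul_of_nonneg_right hn3 (sq_nonneg _)).trans hJb
    have h3' : 3 * T.J ^ 2 ≤ 19655 := by exact_mod_cast h3
    exact int_bound 80 (by norm_num; linarith)
  by_cases hz0 : T.z 0 = 0
  · exact zero_case_27 dAH dHR dA1 dp0 hz0 hJ80
  have hz0' : T.z 0 = 1 ∨ T.z 0 = -1 := by clear * - hz0 hzb; omega
  have hh' : T.h = 1 ∨ T.h = -1 := by
    have hp : T.h ^ 2 < 6 := by rcases hz0' with e | e <;> rw [e] at hhz <;> linarith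
    have := int_bound 2 (x := T.h) (by norm_num; linarith)
    clear * - this p0 hz0'
    omega
  have hzr : (T.z 0 : ℝ) ^ 2 = 1 ∧ (T.z 1 : ℝ) ^ 2 = 1 ∧ (T.z 2 : ℝ) ^ 2 = 1 ∧ (T.h : ℝ) ^ 2 = 1 := by
    rw [hz1, hz2]
    rcases hz0' with e | e <;> rcases hh' with e' | e' <;> rw [e, e'] <;> norm_num
  obtain ⟨q0, q1, q2, qh⟩ := hzr
  rw [ha, hb, q0, q1, q2, qh] at hbud
  norm_num [-Nat.card_eq_fintype_card] at hbud
  have h60 : T.J ^ 2 < 3600 := by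
    exact_mod_cast (show (T.J : ℝ) ^ 2 < 3600 by linarith)
  rw [hz1, hz2] at dTD
  obtain ⟨hJ13, hD2, hD7, hD28⟩ := inv_case_27 dAH dHR dA1 dp0 dTD hh' hz0'
    (int_bound 59 (by norm_num; linarith))
  have hJsq : (T.J : ℝ) ^ 2 = 169 := by
    rcases hJ13 with ⟨e, -⟩ | ⟨e, -⟩ <;> rw [e] <;> norm_num
  rw [hJsq] at hbud
  exfalso
  -- the degree
  obtain ⟨n, hn0, hn'⟩ := IsIrr.exists_degree (F.θ F.z).2
  have hDn : T.D = n := by exact_mod_cast (T.deg.symm.trans hn')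
  have hD703 : (703 : ℤ) ≤ T.D := by
    have h := two_le_degree hK hm1 _ (theta_ne_triv (selfCent_six hK hA) F F.z)
    rw [T.deg, Complex.intCast_re] at h
    norm_num at h
    exact_mod_cast h
  have hdvd : n ∣ 13 * 56 * 13837149 := by
    have h := CfsgLib.CharDegree.charDegree_dvd_card (F.θ F.z)
    rw [CfsgLib.CharDegree.charDegree_eq_of_apply_one hn', card_RG hK] at h
    norm_num at h ⊢
    exact h
  obtain ⟨e, he⟩ : (13 : ℕ) ∣ n := Int.natCast_dvd_natCast.1 (by rw [← hDn]; exact dAH)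
  subst he
  have he' : e ∣ 3 ^ 9 * (19 * 37) := by
    have h56 : e ∣ 56 * 13837149 := by
      rw [mul_assoc] at hdvd
      exact Nat.dvd_of_mul_dvd_mul_left (by norm_num) hdvd
    refine (Nat.Coprime.dvd_of_dvd_mul_left ?_ h56).trans (dvd_of_eq (by norm_num))
    rw [show (56 : ℕ) = 2 ^ 3 * 7 by norm_num, Nat.coprime_mul_iff_right,
      Nat.coprime_pow_right_iff (by norm_num), Nat.coprime_comm, Nat.Prime.coprime_iff_not_dvd Nat.prime_two,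
      Nat.coprime_comm, Nat.Prime.coprime_iff_not_dvd (by norm_num)]
    push_cast at hDn
    clear * - hDn hD2 hD7; omega
  obtain ⟨-, -, -, c, hc⟩ := self_bound (selfCent_six hK hA) F
  rw [T.deg, relIndex_six hK hA] at hc
  have hc' : T.D = (Nat.card A : ℤ) * c + (beta F (F.θ F.z) + F.sgn) + 6 * F.sgn := by exact_mod_cast hc
  have hbf := beta_family_le (selfCent_six hK hA) F
  rw [relIndex_six hK hA] at hbf
  push_cast at hbf hDn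
  have hs : F.sgn = 1 ∨ F.sgn = -1 := mul_self_eq_one_iff.1 F.sgn_sq
  set d : ℤ := beta F (F.θ F.z) + F.sgn with hd
  have hbz : beta F (F.θ F.z) = d - F.sgn := by rw [hd]; ring
  rw [hbz] at hbf
  have hd1 : -1 ≤ d ∧ d ≤ 1 := by
    rcases hN with ⟨-, e'⟩ | ⟨-, e'⟩ <;> rw [e'] at hbf <;> norm_num at hbf <;> constructor <;>
      nlinarith [sq_nonneg (d - F.sgn)]
  refine no_degree_27 (N := Nat.card A) (h := T.h) (z := T.z 0) (d := d) (s := F.sgn) he'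
    (by rw [← hDn]; exact hD703) hh' hz0' hs hd1 ?_ (by rw [← hDn]; exact dA1)
    (by rw [← hDn]; exact hD28) ⟨c, by rw [← hDn, hc']; ring⟩
  rcases hN with ⟨e', e''⟩ | ⟨e', e''⟩
  · refine Or.inl ⟨e', ?_⟩
    rw [e'] at hbud
    have hle : T.D ^ 2 < 40687 ^ 2 := by
      exact_mod_cast (show (T.D : ℝ) ^ 2 < (40687 : ℝ) ^ 2 by norm_num [-Nat.card_eq_fintype_card] at hbud ⊢; linarith)
    have := int_bound 40686 (x := T.D) (by norm_num at hle ⊢; linarith)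
    rw [← hDn]; exact this.2
  · refine Or.inr ⟨e', ?_, ?_⟩
    · rw [e'] at hbud
      have hle : T.D ^ 2 < 10386 ^ 2 := by
        exact_mod_cast (show (T.D : ℝ) ^ 2 < (10386 : ℝ) ^ 2 by norm_num [-Nat.card_eq_fintype_card] at hbud ⊢; linarith)
      have := int_bound 10385 (x := T.D) (by norm_num at hle ⊢; linarith)
      rw [← hDn]; exact this.2
    · rw [e''] at hbf
      rcases hs with es | es <;> rw [es] at hbf ⊢ <;>
        rcases (show d = -1 ∨ d = 0 ∨ d = 1 by clear * - hd1; omega) with ed | ed | ed <;> rw [ed] at hbf ⊢ <;>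
        (revert hbf; norm_num)

/-- The exceptional characters vanish on the involutions. -/
theorem J_eq_zero (hm : 1 ≤ m)
    (hn : Nat.card A = 3 ^ (2 * m + 1) - 3 ^ (m + 1) + 1 ∨
      Nat.card A = 3 ^ (2 * m + 1) + 3 ^ (m + 1) + 1) : T.J = 0 := by
  rcases (show m = 1 ∨ 2 ≤ m by omega) with h | h
  · exact J_eq_zero_27 hK hA T h hn
  · obtain ⟨ha, hb, hh, hz⟩ := zeros_of_large hK hA T h hn
    exact J_eq_zero_of_zero hK hA T hm hn ha hb hh hz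

end CfsgLib.Known.ReeSquare
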